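import Mathlib.GroupTheory.Sylow
import Mathlib.GroupTheory.Index
import Mathlib.Algebra.BigOperators.Group.Finset.Basic
import Mathlib.Algebra.Group.Subgroup.Basic

/-!
Orbits of prime power size: a Sylow subgroup for that prime is transitive on them, and two orbits
of coprime sizes in a coprime action on an abelian group cannot be nontrivial if the orbit of the
product has prime power size.
-/

set_option autoImplicit false

namespace Cfsg.Agent.BaerGroup

variable {A : Type*} [Group A] [Finite A] {p : ℕ} [hp : Fact p.Prime]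

/-- A Sylow `p`-subgroup meets every coset of a subgroup of `p`-power index. -/
theorem exists_sylow_mul_mem (P : Sylow p A) (S : Subgroup A) {k : ℕ} (hS : S.index = p ^ k)
    (g : A) : ∃ h ∈ (P : Subgroup A), h⁻¹ * g ∈ S := by
  classical
  set T := (P : Subgroup A) ⊓ S with hT
  have hco : Nat.Coprime (p ^ k) (P : Subgroup A).index :=
    Nat.Coprime.pow_left _ ((hp.out.coprime_iff_not_dvd).2 P.not_dvd_index)
  have hd : p ^ k * (P : Subgroup A).index ∣ T.index :=
    hco.mul_dvd_of_dvd_of_dvd (hS ▸ Subgroup.index_dvd_of_le inf_le_right)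
      (Subgroup.index_dvd_of_le inf_le_left)
  have he : T.relIndex P * (P : Subgroup A).index = T.index :=
    Subgroup.relIndex_mul_index inf_le_left
  have hle : p ^ k ≤ S.relIndex P := by
    rw [← Subgroup.inf_relIndex_right, inf_comm, ← hT]
    have hpos : 0 < (P : Subgroup A).index := Nat.pos_of_ne_zero Subgroup.index_ne_zero_of_finite
    have hd' : p ^ k ∣ T.relIndex P := Nat.dvd_of_mul_dvd_mul_right hpos (he ▸ hd)
    exact Nat.le_of_dvd (Nat.pos_of_ne_zero fun h => by
      rw [h, zero_mul] at he; exact Subgroup.index_ne_zero_of_finite he.symm) hd'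
  let f : (P : Subgroup A) ⧸ S.subgroupOf (P : Subgroup A) → A ⧸ S :=
    Quotient.map' (Subtype.val) fun a b hab => by
      rw [QuotientGroup.leftRel_apply] at hab ⊢
      simpa [Subgroup.mem_subgroupOf] using hab
  have hf : Function.Injective f := by
    intro a b
    induction a using Quotient.inductionOn' with | h a => ?_
    induction b using Quotient.inductionOn' with | h b => ?_
    intro hab
    have h2 : (a : A)⁻¹ * b ∈ S := QuotientGroup.eq.1 hab
    exact QuotientGroup.eq.2 (by simpa [Subgroup.mem_subgroupOf] using h2)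
  have hbij : Function.Bijective f := by
    haveI := Fintype.ofFinite ((P : Subgroup A) ⧸ S.subgroupOf (P : Subgroup A))
    haveI := Fintype.ofFinite (A ⧸ S)
    refine (Fintype.bijective_iff_injective_and_card f).2 ⟨hf, le_antisymm
      (Fintype.card_le_of_injective f hf) ?_⟩
    rw [← Nat.card_eq_fintype_card, ← Nat.card_eq_fintype_card]
    show S.index ≤ S.relIndex P
    rw [hS]; exact hle
  obtain ⟨a, ha⟩ := hbij.2 (QuotientGroup.mk g)
  induction a using Quotient.inductionOn' with | h a => ?_
  exact ⟨a, a.2, QuotientGroup.eq.1 ha⟩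

theorem exists_sylow_eq (P : Sylow p A) {V : Type*} (f : A → V → V)
    (hmul : ∀ a b v, f (a * b) v = f a (f b v)) (v : V) (S : Subgroup A)
    (hS : ∀ a, a ∈ S → f a v = v) {k : ℕ} (hk : S.index = p ^ k) (g : A) :
    ∃ h ∈ (P : Subgroup A), f g v = f h v := by
  obtain ⟨h, hh, hm⟩ := exists_sylow_mul_mem P S hk g
  refine ⟨h, hh, ?_⟩
  conv_lhs => rw [show g = h * (h⁻¹ * g) by group]
  rw [hmul, hS _ hm]

/-- The stabilizer of a point for an action by automorphisms. -/
def fixer {G V : Type*} [Group G] [Group V] (φ : G →* MulAut V) (v : V) : Subgroup G where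
  carrier := {g | φ g v = v}
  one_mem' := by simp
  mul_mem' := fun {a b} ha hb => by
    simp only [Set.mem_setOf_eq] at *
    rw [map_mul, MulAut.mul_apply, hb, ha]
  inv_mem' := fun {a} ha => by
    simp only [Set.mem_setOf_eq] at *
    conv_lhs => rw [← ha]
    simp

theorem mem_fixer {G V : Type*} [Group G] [Group V] {φ : G →* MulAut V} {v : V} {g : G} :
    g ∈ fixer φ v ↔ φ g v = v := Iff.rfl

/-- Averaging: if the orbits of `x`, `y` and `x * y` have sizes powers of `r`, `s` and `r`
respectively, then `y` is fixed (coprime action on a finite abelian `q`-group). -/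
theorem fixed_of_orbits {G V : Type*} [Group G] [Finite G] [CommGroup V] [Finite V]
    (φ : G →* MulAut V) {q r s : ℕ} [Fact r.Prime] [Fact s.Prime] (hq : q.Prime) (hrs : r ≠ s)
    (hrq : r ≠ q) (hsq : s ≠ q) (hV : IsPGroup q V) {x y : V} {a b c : ℕ}
    (hx : (fixer φ x).index = r ^ a) (hy : (fixer φ y).index = s ^ b)
    (hxy : (fixer φ (x * y)).index = r ^ c) (g : G) : φ g y = y := by
  classical
  haveI := Fintype.ofFinite G
  haveI := Fintype.ofFinite V
  have hr : r.Prime := Fact.out
  have hs : s.Prime := Fact.out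
  -- Sylow subgroups
  obtain ⟨S₀⟩ := (inferInstance : Nonempty (Sylow s (fixer φ (x * y))))
  obtain ⟨R₀⟩ := (inferInstance : Nonempty (Sylow r (fixer φ y)))
  set S' := (S₀ : Subgroup (fixer φ (x * y))).map (fixer φ (x * y)).subtype with hS'
  set R' := (R₀ : Subgroup (fixer φ y)).map (fixer φ y).subtype with hR'
  have hSp : IsPGroup s S' := S₀.2.map _
  have hRp : IsPGroup r R' := R₀.2.map _
  have hSi : ¬ s ∣ S'.index := by
    intro h
    rw [hS', Subgroup.index_map_subtype, hxy] at h
    rcases (Nat.Prime.dvd_mul hs).1 h with h | h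
    · exact S₀.not_dvd_index h
    · exact hrs ((Nat.prime_dvd_prime_iff_eq hs hr).1 (hs.dvd_of_dvd_pow h)).symm
  have hRi : ¬ r ∣ R'.index := by
    intro h
    rw [hR', Subgroup.index_map_subtype, hy] at h
    rcases (Nat.Prime.dvd_mul hr).1 h with h | h
    · exact R₀.not_dvd_index h
    · exact hrs ((Nat.prime_dvd_prime_iff_eq hr hs).1 (hr.dvd_of_dvd_pow h))
  let S : Sylow s G := hSp.toSylow hSi
  let R : Sylow r G := hRp.toSylow hRi
  -- constant averages
  set PS : V → V := fun v => ∏ t : S', φ t v with hPS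
  set PR : V → V := fun v => ∏ t : R', φ t v with hPR
  have hcS : ∀ g : G, PS (φ g y) = PS y := by
    intro g
    obtain ⟨h, hh, he⟩ := exists_sylow_eq S (fun a v => φ a v)
      (fun a b v => by simp [map_mul]) y (fixer φ y) (fun a ha => ha) hy g
    have hh' : h ∈ S' := hh
    simp only [hPS] at *
    rw [he]
    refine Fintype.prod_equiv (Equiv.mulRight (⟨h, hh'⟩ : S')) _ _ fun t => ?_
    simp [map_mul, MulAut.mul_apply]
  have hcR : ∀ g : G, PR (φ g x) = PR x := by
    intro g
    obtain ⟨h, hh, he⟩ := exists_sylow_eq R (fun a v => φ a v)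
      (fun a b v => by simp [map_mul]) x (fixer φ x) (fun a ha => ha) hx g
    have hh' : h ∈ R' := hh
    simp only [hPR] at *
    rw [he]
    refine Fintype.prod_equiv (Equiv.mulRight (⟨h, hh'⟩ : R')) _ _ fun t => ?_
    simp [map_mul, MulAut.mul_apply]
  set n := Fintype.card S' with hn
  set m := Fintype.card R' with hm
  have hPSmul : ∀ u v, PS (u * v) = PS u * PS v := fun u v => by
    simp only [hPS, map_mul, Finset.prod_mul_distrib]
  have hPRmul : ∀ u v, PR (u * v) = PR u * PR v := fun u v => by
    simp only [hPR, map_mul, Finset.prod_mul_distrib]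
  have e1 : (x * y) ^ n = PS x * PS y := by
    rw [← hPSmul]
    simp only [hPS]
    rw [Finset.prod_congr rfl (fun (t : S') _ => show φ t (x * y) = x * y from by
      obtain ⟨t, ⟨u, -, rfl⟩⟩ := t; exact u.2), Finset.prod_const, hn, Finset.card_univ]
  have e2 : PR y = y ^ m := by
    simp only [hPR]
    rw [Finset.prod_congr rfl (fun (t : R') _ => show φ t y = y from by
      obtain ⟨t, ⟨u, -, rfl⟩⟩ := t; exact u.2), Finset.prod_const, hm, Finset.card_univ]
  let PRh : V →* V := ∏ t : R', (φ t).toMonoidHom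
  have hPRh : ∀ v, PR v = PRh v := fun v => by
    simp only [hPR, PRh, MonoidHom.finsetProd_apply]
    rfl
  have e3 : PR (PS x) = PR x ^ n := by
    rw [hPRh]
    simp only [hPS]
    rw [map_prod, Finset.prod_congr rfl (fun (t : S') _ => show PRh (φ t x) = PR x by
      rw [← hPRh, hcR]), Finset.prod_const, hn, Finset.card_univ]
  have e4 : y ^ (m * n) = PR (PS y) := by
    have h5 := congrArg PRh e1
    rw [map_pow, map_mul, map_mul, ← hPRh, ← hPRh, ← hPRh, ← hPRh, e3, e2, mul_pow,
      ← pow_mul] at h5
    exact mul_left_cancel h5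
  -- the power of `PS y` is fixed
  set O : Finset V := Finset.univ.image (fun g : G => φ g y) with hO
  have hperm : ∀ g : G, (∏ o ∈ O, φ g o) = ∏ o ∈ O, o := by
    intro g
    refine Finset.prod_bij (fun o _ => φ g o) ?_ ?_ ?_ (fun o _ => rfl)
    · intro o ho
      obtain ⟨u, -, rfl⟩ := Finset.mem_image.1 ho
      exact Finset.mem_image.2 ⟨g * u, Finset.mem_univ _, by simp [map_mul]⟩
    · exact fun o _ o' _ h => (φ g).injective h
    · intro o ho
      obtain ⟨u, -, rfl⟩ := Finset.mem_image.1 ho
      exact ⟨φ (g⁻¹ * u) y, Finset.mem_image.2 ⟨_, Finset.mem_univ _, rfl⟩, by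
        simp [map_mul]⟩
  have e6 : PS y ^ O.card = (∏ o ∈ O, o) ^ n := by
    have h6 : ∀ o ∈ O, PS o = PS y := fun o ho => by
      obtain ⟨u, -, rfl⟩ := Finset.mem_image.1 ho
      exact hcS u
    rw [← Finset.prod_const, ← Finset.prod_congr rfl h6]
    simp only [hPS]
    rw [Finset.prod_comm, Finset.prod_congr rfl (fun (t : S') _ => hperm t), Finset.prod_const,
      hn, Finset.card_univ]
  have hfix : φ g (y ^ (m * n * O.card)) = y ^ (m * n * O.card) := by
    have e7 : y ^ (m * n * O.card) = (PRh (∏ o ∈ O, o)) ^ n := by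
      rw [pow_mul, e4, hPRh, ← map_pow, e6, map_pow]
    have e8 : ∀ u : G, φ u (∏ o ∈ O, o) = ∏ o ∈ O, o := fun u => by rw [map_prod, hperm]
    have e9 : PRh (∏ o ∈ O, o) = (∏ o ∈ O, o) ^ m := by
      rw [← hPRh]
      simp only [hPR]
      rw [Finset.prod_congr rfl (fun (t : R') _ => e8 t), Finset.prod_const, hm, Finset.card_univ]
    rw [e7, e9, map_pow, map_pow, e8]
  -- the exponent is prime to `q`
  have hcoS : n.Coprime q := by
    obtain ⟨i, hi⟩ := hSp.exists_card_eq
    rw [hn, ← Nat.card_eq_fintype_card, hi]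
    exact Nat.Coprime.pow_left _ ((Nat.coprime_primes hs hq).2 hsq)
  have hcoR : m.Coprime q := by
    obtain ⟨i, hi⟩ := hRp.exists_card_eq
    rw [hm, ← Nat.card_eq_fintype_card, hi]
    exact Nat.Coprime.pow_left _ ((Nat.coprime_primes hr hq).2 hrq)
  have hcoO : O.card.Coprime q := by
    have hcard : O.card = (fixer φ y).index := by
      rw [Subgroup.index, Nat.card_eq_fintype_card, ← Finset.card_univ]
      symm
      refine Finset.card_bij (fun c _ => φ (Quotient.out c) y) ?_ ?_ ?_
      · exact fun c _ => Finset.mem_image.2 ⟨_, Finset.mem_univ _, rfl⟩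
      · intro c _ d _ h
        rw [← QuotientGroup.out_eq' c, ← QuotientGroup.out_eq' d, QuotientGroup.eq, mem_fixer,
          map_mul, MulAut.mul_apply, ← h, map_inv, MulAut.inv_apply_self]
      · intro o ho
        obtain ⟨u, -, rfl⟩ := Finset.mem_image.1 ho
        refine ⟨QuotientGroup.mk u, Finset.mem_univ _, ?_⟩
        obtain ⟨d, hd⟩ := QuotientGroup.mk_out_eq_mul (fixer φ y) u
        show φ (Quotient.out (QuotientGroup.mk u : G ⧸ fixer φ y)) y = φ u y
        rw [hd, map_mul, MulAut.mul_apply, d.2]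
    rw [hcard, hy]
    exact Nat.Coprime.pow_left _ ((Nat.coprime_primes hs hq).2 hsq)
  have hco : (Nat.card V).Coprime (m * n * O.card) := by
    haveI := Fact.mk hq
    obtain ⟨i, hi⟩ := hV.exists_card_eq
    rw [hi]
    exact Nat.Coprime.pow_left _ ((hcoR.mul_left hcoS).mul_left hcoO).symm
  apply (powCoprime hco).injective
  simp only [powCoprime_apply]
  rw [← map_pow, hfix]

end Cfsg.Agent.BaerGroup
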