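import Mathlib.RepresentationTheory.Basic
import Mathlib.FieldTheory.Finite.Basic
import Mathlib.GroupTheory.Solvable
import Mathlib.Algebra.Module.ZMod
import Cfsg.Agent.Lib.BaerGroup.Orbit

/-!
Coprime linear groups all of whose orbits have `p`-power size: the basic reductions.
-/

set_option autoImplicit false
set_option linter.unusedSectionVars false
set_option linter.style.haveILetI false

namespace Cfsg.Agent.BaerGroup

universe u v

section

variable {q : ℕ} {A : Type u} [Group A] {V : Type v} [AddCommGroup V] [Module (ZMod q) V]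

/-- The stabilizer of a vector. -/
def vstab (ρ : Representation (ZMod q) A V) (w : V) : Subgroup A where
  carrier := {g | ρ g w = w}
  one_mem' := by simp
  mul_mem' := fun {a b} ha hb => by
    simp only [Set.mem_ofPred_eq] at *
    rw [map_mul, Module.End.mul_apply, hb, ha]
  inv_mem' := fun {a} ha => by
    simp only [Set.mem_ofPred_eq] at *
    conv_lhs => rw [← ha]
    rw [Representation.inv_self_apply]

theorem mem_vstab {ρ : Representation (ZMod q) A V} {w : V} {g : A} :
    g ∈ vstab ρ w ↔ ρ g w = w := Iff.rfl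

/-- All orbits have `p`-power size. -/
def PPowOrbits (p : ℕ) (ρ : Representation (ZMod q) A V) : Prop :=
  ∀ w : V, ∃ k : ℕ, (vstab ρ w).index = p ^ k

end

/-- Faithful coprime groups with `p`-power orbits on spaces with fewer than `n` elements are
soluble. -/
def SolvableBelow (p q : ℕ) (n : ℕ) : Prop :=
  ∀ (A : Type u) [Group A] [Finite A] (W : Type v) [AddCommGroup W] [Module (ZMod q) W] [Finite W]
    (σ : Representation (ZMod q) A W), Function.Injective σ → (Nat.card A).Coprime q →
      PPowOrbits p σ → Nat.card W < n → Group.IsSolvable A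

variable {q : ℕ} [hq : Fact q.Prime] {p : ℕ} [hp : Fact p.Prime] {A : Type u} [Group A] [Finite A]
  {V : Type v} [AddCommGroup V] [Module (ZMod q) V] [Finite V] {ρ : Representation (ZMod q) A V}

/-- The orbits of a Sylow subgroup are those of the group. -/
theorem exists_sylow_apply (hρ : PPowOrbits p ρ) (P : Sylow p A) (g : A) (w : V) :
    ∃ h ∈ (P : Subgroup A), ρ g w = ρ h w := by
  obtain ⟨k, hk⟩ := hρ w
  exact exists_sylow_eq P (fun a v => ρ a v) (fun a b v => by simp [map_mul]) w (vstab ρ w)
    (fun a ha => ha) hk g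

/-- A set stable under a Sylow subgroup is stable under the group. -/
theorem mem_of_sylow_stable (hρ : PPowOrbits p ρ) (P : Sylow p A) (U : Set V)
    (hU : ∀ h ∈ (P : Subgroup A), ∀ w ∈ U, ρ h w ∈ U) (g : A) {w : V} (hw : w ∈ U) :
    ρ g w ∈ U := by
  obtain ⟨h, hh, he⟩ := exists_sylow_apply hρ P g w
  exact he ▸ hU h hh w hw

/-- An irreducibility predicate for a set of operators. -/
def IrredOn (ρ : Representation (ZMod q) A V) (B : Subgroup A) : Prop :=
  ∀ U : Submodule (ZMod q) V, (∀ h ∈ B, ∀ w ∈ U, ρ h w ∈ U) → U = ⊥ ∨ U = ⊤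

theorem IrredOn.mono {B C : Subgroup A} (h : IrredOn ρ B) (hBC : B ≤ C) : IrredOn ρ C :=
  fun U hU => h U fun b hb => hU b (hBC hb)

/-- A nonidentity element commuting with an irreducible subgroup fixes only zero. -/
theorem IrredOn.fixed_eq_zero {B : Subgroup A} (hB : IrredOn ρ B) (hinj : Function.Injective ρ)
    {x : A} (hx : x ≠ 1) (hc : ∀ h ∈ B, h * x = x * h) {w : V} (hw : ρ x w = w) : w = 0 := by
  rcases hB (LinearMap.eqLocus (ρ x) LinearMap.id) (fun h hh u hu => by
    simp only [LinearMap.mem_eqLocus, LinearMap.id_coe, id_eq] at hu ⊢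
    rw [← Module.End.mul_apply, ← map_mul, ← hc h hh, map_mul, Module.End.mul_apply, hu]) with h | h
  · have : w ∈ (⊥ : Submodule (ZMod q) V) := h ▸ (show w ∈ LinearMap.eqLocus (ρ x) LinearMap.id by
      simpa using hw)
    simpa using this
  · refine absurd (hinj ?_) hx
    rw [map_one]
    ext u
    have : u ∈ LinearMap.eqLocus (ρ x) LinearMap.id := h ▸ Submodule.mem_top
    simpa using this

/-- An element of order prime to `q` acting trivially on a subgroup and on the quotient is
trivial. -/
theorem eq_one_of_chain (hinj : Function.Injective ρ) (hco : (Nat.card A).Coprime q)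
    (U : Submodule (ZMod q) V) {g : A} (h1 : ∀ w ∈ U, ρ g w = w) (h2 : ∀ w, ρ g w - w ∈ U) :
    g = 1 := by
  have key : ∀ j : ℕ, ∀ w, ρ (g ^ j) w = w + j • (ρ g w - w) := by
    intro j
    induction j with
    | zero => simp
    | succ j ih =>
      intro w
      rw [pow_succ', map_mul, Module.End.mul_apply, ih, map_add, map_nsmul, h1 _ (h2 w), succ_nsmul]
      abel
  have hgq : g ^ q = 1 := hinj (by
    rw [map_one]
    ext w
    rw [key q w, ← Nat.cast_smul_eq_nsmul (ZMod q), ZMod.natCast_self, zero_smul, add_zero]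
    rfl)
  have h3 := orderOf_dvd_of_pow_eq_one hgq
  exact orderOf_eq_one_iff.1 (Nat.eq_one_of_dvd_coprimes hco (orderOf_dvd_natCard g) h3)

/-- The image on a smaller space is soluble. -/
theorem isSolvable_quotient_ker {n : ℕ} (IH : SolvableBelow.{u, v} p q n) {W : Type v}
    [AddCommGroup W] [Module (ZMod q) W] [Finite W] (σ : Representation (ZMod q) A W)
    (hco : (Nat.card A).Coprime q) (hσ : PPowOrbits p σ) (hW : Nat.card W < n) :
    Group.IsSolvable (A ⧸ σ.asGroupHom.ker) := by
  let τ : Representation (ZMod q) (A ⧸ σ.asGroupHom.ker) W :=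
    (Units.coeHom _).comp (QuotientGroup.kerLift σ.asGroupHom)
  have hτ : ∀ a : A, τ (QuotientGroup.mk a) = σ a := fun a => by
    simp [τ, Representation.asGroupHom_apply]
  refine IH _ W τ ?_ (Nat.Coprime.coprime_dvd_left (Subgroup.card_quotient_dvd_card _) hco) ?_ hW
  · intro a b h
    exact QuotientGroup.kerLift_injective _ (Units.ext h)
  · intro w
    obtain ⟨k, hk⟩ := hσ w
    refine ⟨k, ?_⟩
    rw [← Subgroup.index_comap_of_surjective _ (QuotientGroup.mk'_surjective σ.asGroupHom.ker), ← hk]
    congr 1

/-- A group is soluble when its images modulo finitely many normal subgroups with trivial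
intersection are. -/
theorem isSolvable_of_iInf {ι : Type*} [Finite ι] (K : ι → Subgroup A) [∀ i, (K i).Normal]
    (hK : ∀ i, Group.IsSolvable (A ⧸ K i)) (h : ∀ g : A, (∀ i, g ∈ K i) → g = 1) :
    Group.IsSolvable A := by
  classical
  haveI := Fintype.ofFinite ι
  have h1 : ∀ i, ∃ n, derivedSeries A n ≤ K i := fun i => by
    obtain ⟨n, hn⟩ := (Group.isSolvable_def (G := A ⧸ K i)).1 (hK i)
    refine ⟨n, ?_⟩
    rw [← QuotientGroup.ker_mk' (K i), ← Subgroup.map_eq_bot_iff,
      map_derivedSeries_eq (QuotientGroup.mk'_surjective (K i)), hn]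
  choose n hn using h1
  refine (Group.isSolvable_def (G := A)).2 ⟨Finset.univ.sup n, eq_bot_iff.2 fun g hg => ?_⟩
  rw [Subgroup.mem_bot]
  exact h g fun i => hn i (derivedSeries_antitone A (Finset.le_sup (Finset.mem_univ i)) hg)

/-- A reducible coprime group with `p`-power orbits is soluble by induction. -/
theorem isSolvable_of_invariant (IH : SolvableBelow.{u, v} p q (Nat.card V))
    (hinj : Function.Injective ρ) (hco : (Nat.card A).Coprime q) (hρ : PPowOrbits p ρ)
    (hp' : p.Prime)
    (U : Submodule (ZMod q) V) (hU : ∀ g, ∀ w ∈ U, ρ g w ∈ U) (h0 : U ≠ ⊥) (h1 : U ≠ ⊤) :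
    Group.IsSolvable A := by
  classical
  let σ := ρ.subrepresentation U (fun g w hw => hU g w hw)
  let τ := ρ.quotient U (fun g w hw => hU g w hw)
  have hσ : PPowOrbits p σ := fun w => by
    obtain ⟨k, hk⟩ := hρ w
    refine ⟨k, hk ▸ congrArg Subgroup.index ?_⟩
    ext g
    simp [mem_vstab, σ, Representation.subrepresentation, Subtype.ext_iff]
  have hτ : PPowOrbits p τ := fun w => by
    obtain ⟨w, rfl⟩ := Submodule.Quotient.mk_surjective U w
    obtain ⟨k, hk⟩ := hρ w
    have hle : vstab ρ w ≤ vstab τ (Submodule.Quotient.mk w) := fun g hg => by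
      simp only [mem_vstab, τ, Representation.quotient] at hg ⊢
      simp [hg]
    obtain ⟨j, -, hj⟩ := (Nat.dvd_prime_pow hp').1 (hk ▸ Subgroup.index_dvd_of_le hle)
    exact ⟨j, hj⟩
  haveI : Finite (V ⧸ U) := Finite.of_surjective _ (Submodule.Quotient.mk_surjective U)

  have hUlt : Nat.card U < Nat.card V := by
    haveI := Fintype.ofFinite V
    refine lt_of_le_of_ne (Nat.card_le_card_of_injective _ U.injective_subtype) fun he => h1 ?_
    rw [eq_top_iff]
    intro w _
    obtain ⟨u, rfl⟩ := ((Nat.bijective_iff_injective_and_card U.subtype).2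
      ⟨U.injective_subtype, he⟩).2 w
    exact u.2
  have hQlt : Nat.card (V ⧸ U) < Nat.card V := by
    refine lt_of_le_of_ne (Nat.card_le_card_of_surjective _ (Submodule.Quotient.mk_surjective U))
      fun he => h0 ?_
    rw [eq_bot_iff]
    intro w hw
    have := ((Nat.bijective_iff_surjective_and_card (Submodule.Quotient.mk (p := U))).2
      ⟨Submodule.Quotient.mk_surjective U, he.symm⟩).1 (a₁ := w) (a₂ := 0) (by simpa using hw)
    simpa using this
  haveI : ∀ b : Bool, (bif b then σ.asGroupHom.ker else τ.asGroupHom.ker).Normal := by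
    rintro ⟨⟩
    · exact MonoidHom.normal_ker _
    · exact MonoidHom.normal_ker _
  refine isSolvable_of_iInf (fun b : Bool => bif b then σ.asGroupHom.ker else τ.asGroupHom.ker)
    (hK := ?_) ?_
  · rintro ⟨⟩
    · exact isSolvable_quotient_ker IH τ hco hτ hQlt
    · exact isSolvable_quotient_ker IH σ hco hσ hUlt
  · intro g hg
    have hg1 : σ g = 1 := by simpa [Representation.asGroupHom_apply] using congrArg Units.val (MonoidHom.mem_ker.1 (hg true))
    have hg2 : τ g = 1 := by simpa [Representation.asGroupHom_apply] using congrArg Units.val (MonoidHom.mem_ker.1 (hg false))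
    refine eq_one_of_chain hinj hco U (fun w hw => ?_) (fun w => ?_)
    · have := congrArg Subtype.val (LinearMap.congr_fun hg1 ⟨w, hw⟩)
      simpa [σ, Representation.subrepresentation] using this
    · have := LinearMap.congr_fun hg2 (Submodule.Quotient.mk w)
      simp only [τ, Representation.quotient] at this
      simpa [Submodule.Quotient.eq] using this

end Cfsg.Agent.BaerGroup
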