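import Mathlib.Algebra.Field.ZMod
import Mathlib.LinearAlgebra.DFinsupp
import Cfsg.Agent.Lib.BaerGroup.Rep
import Cfsg.Agent.Lib.Cores.Basic

/-!
A cycle of `p` blocks permuted by translations under a Sylow subgroup forces solubility.
-/

set_option autoImplicit false
set_option linter.unusedSectionVars false
set_option linter.style.haveILetI false

namespace Cfsg.Agent.BaerGroup

universe u v

variable {q : ℕ} [hq : Fact q.Prime] {p : ℕ} [hp : Fact p.Prime] {A : Type u} [Group A] [Finite A]
  {V : Type v} [AddCommGroup V] [Module (ZMod q) V] [Finite V] {ρ : Representation (ZMod q) A V}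

/-- Two decompositions into two blocks use the same blocks. -/
theorem block_pair {U : ZMod p → Submodule (ZMod q) V} (hind : iSupIndep U) {k l k' l' : ZMod p}
    {a b a' b' : V} (ha : a ∈ U k) (hb : b ∈ U l) (ha' : a' ∈ U k') (hb' : b' ∈ U l')
    (hkl : k ≠ l) (ha0 : a ≠ 0) (h : a + b = a' + b') : k = k' ∨ k = l' := by
  by_contra hcon
  push Not at hcon
  have hle : ∀ j, j ≠ k → U j ≤ ⨆ (j) (_ : j ≠ k), U j := fun j hj =>
    le_iSup₂_of_le j hj le_rfl
  have h1 : a ∈ ⨆ (j) (_ : j ≠ k), U j := by
    rw [show a = a' + b' - b by rw [← h]; abel]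
    exact sub_mem (add_mem (hle _ hcon.1.symm ha') (hle _ hcon.2.symm hb')) (hle _ hkl.symm hb)
  exact ha0 ((Submodule.mem_bot _).1 ((hind k).le_bot ⟨ha, h1⟩))

/-- Each element maps a block into a block. -/
theorem exists_block_image (hρ : PPowOrbits p ρ) (P : Sylow p A)
    (U : ZMod p → Submodule (ZMod q) V) (hind : iSupIndep U)
    (hmap : ∀ h ∈ (P : Subgroup A), ∃ c : ZMod p, ∀ i, ∀ w ∈ U i, ρ h w ∈ U (i + c))
    (g : A) (i : ZMod p) : ∃ j, ∀ w ∈ U i, ρ g w ∈ U j := by
  have one : ∀ w ∈ U i, ∃ j, ρ g w ∈ U j := fun w hw => by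
    obtain ⟨h, hh, he⟩ := exists_sylow_apply hρ P g w
    obtain ⟨c, hc⟩ := hmap h hh
    exact ⟨i + c, he ▸ hc i w hw⟩
  by_cases hex : ∃ w ∈ U i, w ≠ 0
  · obtain ⟨w, hw, hw0⟩ := hex
    obtain ⟨j, hj⟩ := one w hw
    refine ⟨j, fun w' hw' => ?_⟩
    obtain ⟨j', hj'⟩ := one w' hw'
    by_cases hjj : j' = j
    · exact hjj ▸ hj'
    by_cases hw0' : ρ g w' = 0
    · rw [hw0']; exact zero_mem _
    exfalso
    obtain ⟨k, hk⟩ := one _ (add_mem hw hw')
    rw [map_add] at hk
    have hgw : ρ g w ≠ 0 := fun h => hw0 ((ρ.apply_bijective g).1 (h.trans (map_zero _).symm))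
    have h1 := block_pair hind hj hj' hk (zero_mem (U k)) (Ne.symm hjj) hgw (add_zero _).symm
    have h2 := block_pair hind hj' hj hk (zero_mem (U k)) hjj hw0' (by rw [add_zero, add_comm])
    simp only [or_self] at h1 h2
    exact hjj (h2.trans h1.symm)
  · push Not at hex
    exact ⟨i, fun w hw => by rw [hex w hw, map_zero]; exact zero_mem _⟩

/-- The imprimitive case. -/
theorem isSolvable_of_blocks (IH : SolvableBelow.{u, v} p q (Nat.card V))
    (hinj : Function.Injective ρ) (hco : (Nat.card A).Coprime q) (hρ : PPowOrbits p ρ)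
    (P : Sylow p A) (U : ZMod p → Submodule (ZMod q) V) (h0 : ∀ i, U i ≠ ⊥) (hind : iSupIndep U)
    (htop : ⨆ i, U i = ⊤)
    (hmap : ∀ h ∈ (P : Subgroup A), ∃ c : ZMod p, ∀ i, ∀ w ∈ U i, ρ h w ∈ U (i + c)) :
    Group.IsSolvable A := by
  classical
  have hpr : p.Prime := hp.out
  choose f hf using exists_block_image hρ P U hind hmap
  have hne : ∀ i, ∃ w ∈ U i, w ≠ 0 := fun i => by
    by_contra hcon
    push Not at hcon
    exact h0 i (eq_bot_iff.2 fun w hw => (Submodule.mem_bot _).2 (hcon w hw))
  have huniq : ∀ g i j, ∀ w ∈ U i, w ≠ 0 → ρ g w ∈ U j → f g i = j := by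
    intro g i j w hw hw0 hj
    by_contra hij
    have hgw : ρ g w ≠ 0 := fun h => hw0 ((ρ.apply_bijective g).1 (h.trans (map_zero _).symm))
    have := block_pair hind (hf g i w hw) (zero_mem (U j)) hj (zero_mem (U j)) hij hgw rfl
    exact hij (this.elim id id)
  have hmul : ∀ g g' i, f (g * g') i = f g (f g' i) := fun g g' i => by
    obtain ⟨w, hw, hw0⟩ := hne i
    refine huniq _ _ _ w hw hw0 ?_
    rw [map_mul, Module.End.mul_apply]
    exact hf g _ _ (hf g' i w hw)
  have hone : ∀ i, f 1 i = i := fun i => by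
    obtain ⟨w, hw, hw0⟩ := hne i
    exact huniq _ _ _ w hw hw0 (by simpa using hw)
  let σ : A →* Equiv.Perm (ZMod p) :=
    { toFun := fun g => ⟨f g, f g⁻¹, fun i => by rw [← hmul, inv_mul_cancel, hone],
        fun i => by rw [← hmul, mul_inv_cancel, hone]⟩
      map_one' := Equiv.ext hone
      map_mul' := fun g g' => Equiv.ext (hmul g g') }
  have hσ : ∀ g i, σ g i = f g i := fun _ _ => rfl
  -- consecutive blocks stay consecutive
  have h10 : (1 : ZMod p) ≠ 0 := one_ne_zero
  have hadj : ∀ g i, σ g (i + 1) - σ g i = 1 ∨ σ g (i + 1) - σ g i = -1 := by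
    intro g i
    obtain ⟨a, ha, ha0⟩ := hne i
    obtain ⟨b, hb, hb0⟩ := hne (i + 1)
    obtain ⟨h, hh, he⟩ := exists_sylow_apply hρ P g (a + b)
    obtain ⟨c, hc⟩ := hmap h hh
    rw [map_add, map_add] at he
    have hne' : f g i ≠ f g (i + 1) := fun e => h10 (by
      have := (σ g).injective (show σ g i = σ g (i + 1) from e)
      simpa using this)
    have hga : ρ g a ≠ 0 := fun h => ha0 ((ρ.apply_bijective g).1 (h.trans (map_zero _).symm))
    have hgb : ρ g b ≠ 0 := fun h => hb0 ((ρ.apply_bijective g).1 (h.trans (map_zero _).symm))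
    have h1 := block_pair hind (hf g i a ha) (hf g _ b hb) (hc i a ha) (hc _ b hb) hne' hga he
    have h2 := block_pair hind (hf g _ b hb) (hf g i a ha) (hc i a ha) (hc _ b hb) hne'.symm hgb
      (by rw [add_comm, he])
    rw [hσ, hσ]
    rcases h1 with h1 | h1 <;> rcases h2 with h2 | h2
    · exact absurd (h1.trans h2.symm) hne'
    · left; rw [h1, h2]; abel
    · right; rw [h1, h2]; abel
    · exact absurd (h1.trans h2.symm) hne'
  have hconst : ∀ g i, σ g (i + 1) - σ g i = σ g 1 - σ g 0 := by
    intro g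
    have hstep : ∀ i, σ g (i + 1 + 1) - σ g (i + 1) = σ g (i + 1) - σ g i := by
      intro i
      by_cases h2 : (2 : ZMod p) = 0
      · have hneg : (-1 : ZMod p) = 1 := by linear_combination (-1 : ZMod p) * h2
        have := hadj g (i + 1)
        have := hadj g i
        rw [hneg] at *
        simp only [or_self] at *
        simp_all
      · rcases hadj g i with h | h <;> rcases hadj g (i + 1) with h' | h' <;>
          first
          | exact h'.trans h.symm
          | (exfalso
             have he : σ g (i + 1 + 1) = σ g i := by linear_combination h + h'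
             exact h2 (by linear_combination (σ g).injective he))
    have hn : ∀ n : ℕ, σ g ((n : ZMod p) + 1) - σ g n = σ g 1 - σ g 0 := by
      intro n
      induction n with
      | zero => simp
      | succ n ih => push_cast; rw [hstep, ih]
    intro i
    obtain ⟨n, rfl⟩ := ZMod.natCast_zmod_surjective i
    exact hn n
  have haff : ∀ g i, σ g i = σ g 0 + i * (σ g 1 - σ g 0) := by
    intro g i
    obtain ⟨n, rfl⟩ := ZMod.natCast_zmod_surjective i
    induction n with
    | zero => simp
    | succ n ih =>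
      push_cast
      linear_combination hconst g n + ih
  -- the slope
  let e : A →* ZMod p :=
    { toFun := fun g => σ g 1 - σ g 0
      map_one' := by simp
      map_mul' := fun g g' => by
        simp only [map_mul, Equiv.Perm.mul_apply]
        rw [haff g (σ g' 1), haff g (σ g' 0)]
        ring }
  have hquot : Group.IsSolvable (A ⧸ σ.ker) := by
    refine (Group.isSolvable_def (G := A ⧸ σ.ker)).2 ⟨2, ?_⟩
    rw [← map_derivedSeries_eq (QuotientGroup.mk'_surjective σ.ker), Subgroup.map_eq_bot_iff,
      QuotientGroup.ker_mk']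
    have h1 : derivedSeries A 1 ≤ e.toHomUnits.ker := by
      rw [derivedSeries_one]
      exact Abelianization.commutator_subset_ker _
    have htr : ∀ g ∈ derivedSeries A 1, ∀ i, σ g i = i + σ g 0 := fun g hg i => by
      have h2 : e g = 1 := by
        simpa using congrArg Units.val (MonoidHom.mem_ker.1 (h1 hg))
      rw [haff g i, show σ g 1 - σ g 0 = 1 from h2]
      ring
    show ⁅derivedSeries A 1, derivedSeries A 1⁆ ≤ σ.ker
    rw [Subgroup.commutator_le]
    intro g hg g' hg'
    rw [MonoidHom.mem_ker, map_commutatorElement, commutatorElement_eq_one_iff_mul_comm]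
    refine Equiv.ext fun i => ?_
    simp only [Equiv.Perm.mul_apply]
    rw [htr g hg, htr g' hg', htr g' hg' (σ g i), htr g hg i]
    ring
  -- the kernel
  have hblk : ∀ (i : ZMod p) (g : σ.ker), U i ≤ (U i).comap (ρ.comp σ.ker.subtype g) := by
    intro i g w hw
    have h := hf (g : A) i w hw
    have e : f (g : A) i = i := by
      rw [← hσ, MonoidHom.mem_ker.1 g.2]
      rfl
    rw [e] at h
    exact h
  let τ := fun i => Representation.subrepresentation (ρ.comp σ.ker.subtype) (U i) (hblk i)
  have hτ : ∀ i, PPowOrbits p (τ i) := fun i w => by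
    obtain ⟨k, hk⟩ := hρ w
    have heq : vstab (τ i) w = (vstab ρ (w : V)).subgroupOf σ.ker := by
      ext g
      simp [mem_vstab, τ, Representation.subrepresentation, Subtype.ext_iff, Subgroup.mem_subgroupOf]
    obtain ⟨j, -, hj⟩ := (Nat.dvd_prime_pow hpr).1 (hk ▸
      (show (vstab (τ i) w).index ∣ (vstab ρ (w : V)).index by
        rw [heq]; exact Cores.relIndex_dvd_index_right_normal _ _))
    exact ⟨j, hj⟩
  have hker : Group.IsSolvable σ.ker := by
    refine isSolvable_of_iInf (fun i => (τ i).asGroupHom.ker)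
      (fun i => isSolvable_quotient_ker IH (τ i)
        (Nat.Coprime.coprime_dvd_left (Subgroup.card_subgroup_dvd_card _) hco) (hτ i) ?_) ?_
    · haveI := Fintype.ofFinite V
      refine lt_of_le_of_ne (Nat.card_le_card_of_injective _ (U i).injective_subtype) fun he => ?_
      obtain ⟨w, hw, hw0⟩ := hne (i + 1)
      obtain ⟨u, hu⟩ := ((Nat.bijective_iff_injective_and_card (U i).subtype).2
        ⟨(U i).injective_subtype, he⟩).2 w
      have hwi : w ∈ U i := hu ▸ u.2
      exact hw0 ((Submodule.mem_bot _).1 ((hind i).le_bot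
        ⟨hwi, Submodule.mem_iSup_of_mem (i + 1) (Submodule.mem_iSup_of_mem (by simp) hw)⟩))
    · intro g hg
      refine Subtype.ext (hinj ?_)
      rw [Subgroup.coe_one, map_one]
      ext w
      have hw : w ∈ LinearMap.eqLocus (ρ (g : A)) LinearMap.id := by
        refine (iSup_le (fun i => ?_) : ⨆ i, U i ≤ _) (htop ▸ Submodule.mem_top)
        intro u hu
        have := congrArg Subtype.val
          (LinearMap.congr_fun (congrArg Units.val (MonoidHom.mem_ker.1 (hg i))) ⟨u, hu⟩)
        simpa [τ, Representation.subrepresentation, Representation.asGroupHom_apply] using this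
      simpa using hw
  haveI := hker
  exact (Group.isSolvable_iff_subgroup_quotient σ.ker).2 ⟨hker, hquot⟩

end Cfsg.Agent.BaerGroup
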