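import Mathlib.GroupTheory.SchurZassenhaus
import Cfsg.Agent.SolvStruct.Kazarin

/-!
`O_{r,q}(G)` and the position of elements of `q`-power order with class size a power of `r`.
-/

set_option autoImplicit false
set_option linter.unusedSectionVars false
set_option linter.style.haveILetI false

namespace Cfsg.Agent.BaerGroup

variable {G : Type*} [Group G] [Finite G]

/-- The preimage of `O_q(G/N)`. -/
def upQ (q : ℕ) (N : Subgroup G) [N.Normal] : Subgroup G :=
  (Cfsg.pCore q (G ⧸ N)).comap (QuotientGroup.mk' N)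

instance upQ_normal (q : ℕ) (N : Subgroup G) [N.Normal] : (upQ q N).Normal :=
  (Cores.pCore_normal q).comap _

theorem le_upQ (q : ℕ) (N : Subgroup G) [N.Normal] : N ≤ upQ q N := fun x hx => by
  show QuotientGroup.mk' N x ∈ Cfsg.pCore q (G ⧸ N)
  rw [show QuotientGroup.mk' N x = 1 from (QuotientGroup.eq_one_iff x).2 hx]
  exact one_mem _

theorem upQ_mono {q : ℕ} {N M : Subgroup G} [N.Normal] [M.Normal] (h : N ≤ M) :
    upQ q N ≤ upQ q M := by
  intro x hx
  have hf : Function.Surjective (QuotientGroup.map N M (MonoidHom.id G) h) := fun y => by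
    obtain ⟨y, rfl⟩ := QuotientGroup.mk_surjective y
    exact ⟨QuotientGroup.mk y, rfl⟩
  exact Cores.map_pCore_le hf q ⟨_, hx, rfl⟩

theorem pCore_le_upQ (q : ℕ) (N : Subgroup G) [N.Normal] : Cfsg.pCore q G ≤ upQ q N :=
  Subgroup.map_le_iff_le_comap.1 (Cores.map_pCore_le (QuotientGroup.mk'_surjective N) q)

theorem upQ_self_le (q : ℕ) : upQ q (Cfsg.pCore q G) ≤ Cfsg.pCore q G := by
  rw [upQ, Cores.pCore_quotient_self, MonoidHom.comap_bot, QuotientGroup.ker_mk']

theorem card_upQ (q : ℕ) [Fact q.Prime] (N : Subgroup G) [N.Normal] :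
    ∃ i, Nat.card (upQ q N) = Nat.card N * q ^ i := by
  obtain ⟨i, hi⟩ := (Cores.pCore_isPGroup (G := G ⧸ N) q).exists_card_eq
  exact ⟨i, by rw [upQ, Cores.card_comap_mk', hi]⟩

/-- An element of `q`-power order with class size a power of `r` lies in `O_{r,q}(G)`. -/
theorem mem_upQ {q r a : ℕ} [hq : Fact q.Prime] (hr : r.Prime) {x : G}
    (hx : ∃ k, orderOf x = q ^ k)
    (hc : (Subgroup.centralizer ({x} : Set G)).index = r ^ a) :
    x ∈ upQ q (Cfsg.pCore r G) := by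
  obtain ⟨k, hk⟩ := hx
  set π := QuotientGroup.mk' (Cfsg.pCore r G)
  set S := Group.conjugatesOfSet ({π x} : Set (G ⧸ Cfsg.pCore r G))
  have hcomm : ∀ u ∈ S, ∀ w ∈ S, Commute u w := by
    intro u hu w hw
    obtain ⟨_, rfl, hu⟩ := Group.mem_conjugatesOfSet_iff.1 hu
    obtain ⟨_, rfl, hw⟩ := Group.mem_conjugatesOfSet_iff.1 hw
    obtain ⟨g, rfl⟩ := isConj_iff.1 hu
    obtain ⟨h, rfl⟩ := isConj_iff.1 hw
    obtain ⟨g, rfl⟩ := QuotientGroup.mk'_surjective _ g
    obtain ⟨h, rfl⟩ := QuotientGroup.mk'_surjective _ h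
    rw [commute_iff_eq, ← commutatorElement_eq_one_iff_mul_comm, ← map_inv, ← map_inv, ← map_mul,
      ← map_mul, ← map_mul, ← map_mul, ← map_commutatorElement]
    exact (QuotientGroup.eq_one_iff _).2
      (SolvStruct.Kazarin.commutator_mem_pCore hr hc g h)
  set M := Subgroup.normalClosure ({π x} : Set (G ⧸ Cfsg.pCore r G))
  have h1 : M ≤ Subgroup.centralizer S :=
    (Subgroup.closure_le _).2 fun u hu => Subgroup.mem_centralizer_iff.2 fun w hw => hcomm w hw u hu
  have hMc : ∀ u ∈ M, ∀ w ∈ M, Commute u w := by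
    intro u hu w hw
    have h2 : M ≤ Subgroup.centralizer ({u} : Set (G ⧸ Cfsg.pCore r G)) :=
      (Subgroup.closure_le _).2 fun s hs =>
        Subgroup.mem_centralizer_singleton_iff.2 (Subgroup.mem_centralizer_iff.1 (h1 hu) s hs)
    exact (Subgroup.mem_centralizer_singleton_iff.1 (h2 hw)).symm
  have hpow : ∀ u ∈ M, u ^ (q ^ k) = 1 := by
    intro u hu
    induction hu using Subgroup.closure_induction with
    | mem s hs =>
      obtain ⟨_, rfl, hs⟩ := Group.mem_conjugatesOfSet_iff.1 hs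
      obtain ⟨g, rfl⟩ := isConj_iff.1 hs
      rw [conj_pow, ← map_pow, ← hk, pow_orderOf_eq_one, map_one, mul_one, mul_inv_cancel]
    | one => exact one_pow _
    | mul u w hu hw ihu ihw => rw [(hMc u hu w hw).mul_pow, ihu, ihw, one_mul]
    | inv u _ ih => rw [inv_pow, ih, inv_one]
  have hMq : IsPGroup q M := fun u => ⟨k, Subtype.ext (hpow u u.2)⟩
  exact Cores.le_pCore hMq (Subgroup.subset_normalClosure rfl)

/-- Two different cores meet `O_q(G)` only. -/
theorem upQ_inf_le {q r s : ℕ} [hq : Fact q.Prime] (hr : r.Prime) (hs : s.Prime) (hrs : r ≠ s) :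
    upQ q (Cfsg.pCore r G) ⊓ upQ q (Cfsg.pCore s G) ≤ Cfsg.pCore q G := by
  refine Cores.le_pCore ?_
  haveI := Fact.mk hr
  haveI := Fact.mk hs
  obtain ⟨i, hi⟩ := card_upQ q (Cfsg.pCore r G)
  obtain ⟨j, hj⟩ := card_upQ q (Cfsg.pCore s G)
  obtain ⟨α, hα⟩ := (Cores.pCore_isPGroup (G := G) r).exists_card_eq
  obtain ⟨β, hβ⟩ := (Cores.pCore_isPGroup (G := G) s).exists_card_eq
  rw [hα] at hi
  rw [hβ] at hj
  set T := upQ q (Cfsg.pCore r G) ⊓ upQ q (Cfsg.pCore s G)
  obtain ⟨n, hn⟩ : ∃ n, Nat.card T = q ^ n := by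
    refine ⟨(Nat.card T).primeFactorsList.length,
      Nat.eq_prime_pow_of_unique_prime_dvd Nat.card_pos.ne' fun {d} hd hdT => ?_⟩
    have h1 : d ∣ r ^ α * q ^ i := hdT.trans (hi ▸ Subgroup.card_dvd_of_le inf_le_left)
    have h2 : d ∣ s ^ β * q ^ j := hdT.trans (hj ▸ Subgroup.card_dvd_of_le inf_le_right)
    rcases (Nat.Prime.dvd_mul hd).1 h1 with h1 | h1
    · rcases (Nat.Prime.dvd_mul hd).1 h2 with h2 | h2
      · exact absurd (((Nat.prime_dvd_prime_iff_eq hd hr).1 (hd.dvd_of_dvd_pow h1)).symm.trans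
          ((Nat.prime_dvd_prime_iff_eq hd hs).1 (hd.dvd_of_dvd_pow h2))) hrs
      · exact (Nat.prime_dvd_prime_iff_eq hd hq.out).1 (hd.dvd_of_dvd_pow h2)
    · exact (Nat.prime_dvd_prime_iff_eq hd hq.out).1 (hd.dvd_of_dvd_pow h1)
  exact IsPGroup.of_card hn

end Cfsg.Agent.BaerGroup
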