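import Mathlib.FieldTheory.Finiteness
import Mathlib.LinearAlgebra.Dimension.Free
import Cfsg.Agent.Lib.BaerGroup.Rep

/-!
A doubly transitive orbit of odd size `m` all of whose difference orbit has the same size is
impossible in coprime action.
-/

set_option autoImplicit false
set_option linter.unusedSectionVars false
set_option linter.style.haveILetI false

namespace Cfsg.Agent.BaerGroup

universe u v

variable {q : ℕ} [hq : Fact q.Prime] {A : Type u} [Group A] [Finite A]
  {V : Type v} [AddCommGroup V] [Module (ZMod q) V] [Finite V] {ρ : Representation (ZMod q) A V}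

theorem not_two_transitive (hco : (Nat.card A).Coprime q) (B : Subgroup A) (hB : IrredOn ρ B)
    (O D : Finset V) (m : ℕ) (hm : 3 ≤ m) (hodd : Odd m) (hO : O.card = m) (hD : D.card = m)
    (hD0 : (0 : V) ∉ D) (hOA : ∀ g, ∀ u ∈ O, ρ g u ∈ O) (hDA : ∀ g, ∀ d ∈ D, ρ g d ∈ D)
    (hdiff : ∀ a ∈ O, ∀ b ∈ O, a ≠ b → a - b ∈ D)
    (hDtr : ∀ d ∈ D, ∀ d' ∈ D, ∃ g, ρ g d = d')
    (h2 : ∀ a ∈ O, ∀ b ∈ O, a ≠ b → ∀ c ∈ O, ∀ d ∈ O, c ≠ d → ∃ g, ρ g a = c ∧ ρ g b = d) :
    False := by
  classical
  let F : V → Finset V := fun δ => O.filter fun u => u - δ ∈ O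
  have hFle : ∀ δ ∈ D, ∀ δ' ∈ D, (F δ).card ≤ (F δ').card := by
    intro δ hδ δ' hδ'
    obtain ⟨g, rfl⟩ := hDtr δ hδ δ' hδ'
    refine Finset.card_le_card_of_injOn (ρ g) (fun u hu => ?_) (ρ.apply_bijective g).1.injOn
    obtain ⟨h1, h3⟩ := Finset.mem_filter.1 hu
    exact Finset.mem_filter.2 ⟨hOA g u h1, by rw [← map_sub]; exact hOA g _ h3⟩
  have hsum : ∑ δ ∈ D, (F δ).card = m * (m - 1) := by
    rw [Nat.mul_sub, mul_one, ← hO, ← Finset.offDiag_card,
      Finset.card_eq_sum_card_fiberwise (f := fun x : V × V => x.1 - x.2) (t := D)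
        (fun x hx => by
          obtain ⟨a, b, c⟩ := Finset.mem_offDiag.1 hx
          exact hdiff _ a _ b c)]
    refine Finset.sum_congr rfl fun δ hδ => ?_
    symm
    refine Finset.card_bij (fun x _ => x.1) ?_ ?_ ?_
    · intro x hx
      obtain ⟨hx, he⟩ := Finset.mem_filter.1 hx
      obtain ⟨a, b, -⟩ := Finset.mem_offDiag.1 hx
      exact Finset.mem_filter.2 ⟨a, by rw [← he]; simpa using b⟩
    · intro x hx y hy h
      refine Prod.ext h ?_
      have h1 : x.1 - x.2 = y.1 - y.2 :=
        (Finset.mem_filter.1 hx).2.trans (Finset.mem_filter.1 hy).2.symm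
      rw [show x.1 = y.1 from h] at h1
      exact sub_right_inj.1 h1
    · intro u hu
      obtain ⟨h1, h3⟩ := Finset.mem_filter.1 hu
      refine ⟨(u, u - δ), Finset.mem_filter.2 ⟨Finset.mem_offDiag.2 ⟨h1, h3, fun h => hD0 ?_⟩,
        sub_sub_cancel u δ⟩, rfl⟩
      rwa [sub_eq_self.1 h.symm] at hδ
  have hF : ∀ δ ∈ D, (F δ).card = m - 1 := by
    intro δ hδ
    rw [Finset.sum_congr rfl (fun x hx => le_antisymm (hFle x hx δ hδ) (hFle δ hδ x hx)),
      Finset.sum_const, hD, smul_eq_mul] at hsum
    exact Nat.eq_of_mul_eq_mul_left (by omega) hsum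
  -- closure
  have hadd : ∀ δ ∈ D, ∀ ε ∈ D, δ + ε ∈ insert 0 D := by
    intro δ hδ ε hε
    obtain ⟨u, hu, hu'⟩ : ∃ u, u ∈ (F δ).image (fun u => u - δ) ∧ u ∈ F ε := by
      by_contra hcon
      push Not at hcon
      have hsub : (F δ).image (fun u => u - δ) ∪ F ε ⊆ O := by
        refine Finset.union_subset ?_ (Finset.filter_subset _ _)
        intro x hx
        obtain ⟨y, hy, rfl⟩ := Finset.mem_image.1 hx
        exact (Finset.mem_filter.1 hy).2
      have := Finset.card_le_card hsub
      rw [Finset.card_union_of_disjoint (Finset.disjoint_left.2 fun {x} hx => hcon x hx),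
        Finset.card_image_of_injective _ (fun x y h => sub_left_inj.1 h), hF δ hδ, hF ε hε,
        hO] at this
      omega
    obtain ⟨y, hy, rfl⟩ := Finset.mem_image.1 hu
    have h1 := (Finset.mem_filter.1 hu').2
    by_cases he : y = y - δ - ε
    · have : δ + ε = 0 := by
        have := sub_eq_zero.2 he
        rw [← this]; abel
      exact this ▸ Finset.mem_insert_self _ _
    · have h3 := hdiff y (Finset.mem_filter.1 hy).1 _ h1 he
      rw [show y - (y - δ - ε) = δ + ε by abel] at h3
      exact Finset.mem_insert_of_mem h3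
  have hadd' : ∀ δ ∈ insert 0 D, ∀ ε ∈ insert 0 D, δ + ε ∈ insert 0 D := by
    intro δ hδ ε hε
    rcases Finset.mem_insert.1 hδ with rfl | hδ
    · rwa [zero_add]
    rcases Finset.mem_insert.1 hε with rfl | hε
    · rw [add_zero]; exact Finset.mem_insert_of_mem hδ
    exact hadd δ hδ ε hε
  let W : Submodule (ZMod q) V :=
    { carrier := (insert 0 D : Finset V)
      zero_mem' := Finset.mem_insert_self _ _
      add_mem' := fun {a b} ha hb => hadd' a ha b hb
      smul_mem' := fun c x hx => by
        haveI : NeZero q := ⟨hq.out.ne_zero⟩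
        rw [← ZMod.natCast_zmod_val c, Nat.cast_smul_eq_nsmul]
        induction c.val with
        | zero => simp
        | succ n ih => rw [succ_nsmul]; exact hadd' _ ih _ hx }
  have hW : W = ⊤ := by
    refine (hB W fun h _ w hw => ?_).resolve_left fun h => ?_
    · rcases Finset.mem_insert.1 hw with rfl | hw
      · rw [map_zero]; exact zero_mem W
      · exact Finset.mem_insert_of_mem (hDA h w hw)
    · obtain ⟨d, hd⟩ : D.Nonempty := Finset.card_pos.1 (by omega)
      have : d ∈ W := Finset.mem_insert_of_mem hd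
      rw [h, Submodule.mem_bot] at this
      exact hD0 (this ▸ hd)
  have hV : Nat.card V = m + 1 := by
    haveI := Fintype.ofFinite V
    have : (insert 0 D : Finset V) = Finset.univ := Finset.eq_univ_of_forall fun x => by
      have : x ∈ W := hW ▸ Submodule.mem_top
      exact this
    rw [Nat.card_eq_fintype_card, ← Finset.card_univ, ← this, Finset.card_insert_of_notMem hD0, hD]
  have hq2 : q = 2 := by
    have h3 := Module.natCard_eq_pow_finrank (K := ZMod q) (V := V)
    rw [hV, Nat.card_eq_fintype_card, ZMod.card] at h3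
    have h4 : 2 ∣ q ^ Module.finrank (ZMod q) V := h3 ▸ hodd.add_one.two_dvd
    exact ((Nat.prime_dvd_prime_iff_eq Nat.prime_two hq.out).1 (Nat.prime_two.dvd_of_dvd_pow h4)).symm
  -- an element interchanging two points has even order
  obtain ⟨a, ha, b, hb, hab⟩ := Finset.one_lt_card.1 (show 1 < O.card by omega)
  obtain ⟨g, hga, hgb⟩ := h2 a ha b hb hab b hb a ha hab.symm
  have hev : ¬ Even (orderOf g) → False := fun h => by
    obtain ⟨k, hk⟩ := Nat.not_even_iff_odd.1 h
    have hpow : ∀ k : ℕ, ρ (g ^ (2 * k)) a = a := fun k => by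
      induction k with
      | zero => simp
      | succ k ih =>
        rw [Nat.mul_succ, pow_add, map_mul, Module.End.mul_apply, pow_two, map_mul,
          Module.End.mul_apply, hga, hgb, ih]
    have h1 : ρ (g ^ orderOf g) a = a := by rw [pow_orderOf_eq_one, map_one]; rfl
    rw [hk, pow_succ', map_mul, Module.End.mul_apply, hpow, hga] at h1
    exact hab h1.symm
  have h2A : 2 ∣ Nat.card A := (not_not.1 hev).two_dvd.trans (orderOf_dvd_natCard g)
  subst hq2
  exact absurd (Nat.eq_one_of_dvd_coprimes hco h2A dvd_rfl) (by norm_num)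

end Cfsg.Agent.BaerGroup
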