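import Cfsg.Agent.Lib.BaerGroup.Kummer
import Cfsg.Agent.Lib.BaerGroup.Pairs
import Cfsg.Agent.Lib.Cores.Basic
import Cfsg.Agent.S0675
import Cfsg.Agent.S3972

/-!
The case of a cyclic Sylow `p`-subgroup whose subgroup of order `p` is irreducible.
-/

set_option autoImplicit false
set_option linter.unusedSectionVars false
set_option linter.style.haveILetI false

namespace Cfsg.Agent.BaerGroup

universe u v

open scoped commutatorElement

variable {q : ℕ} [hq : Fact q.Prime] {p : ℕ} [hp : Fact p.Prime] {A : Type u} [Group A] [Finite A]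
  {V : Type v} [AddCommGroup V] [Module (ZMod q) V] [Finite V] {ρ : Representation (ZMod q) A V}

/-- The elements commuting with an irreducible element commute with each other. -/
theorem commute_of_irred [Nontrivial V] (hinj : Function.Injective ρ) {z : A}
    (hz : IrredOn ρ (Subgroup.zpowers z)) {x y : A} (hx : Commute x z) (hy : Commute y z) :
    Commute x y := by
  obtain ⟨K, _, _, _, ω, Φ, hΦ⟩ := exists_field hz
  have key : ∀ x : A, Commute x z → ∀ t : K, ρ x (Φ t) = Φ (t * Φ.symm (ρ x (Φ 1))) := by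
    intro x hx
    let L1 : K →ₗ[ZMod q] V := (ρ x).comp (Φ : K →ₗ[ZMod q] V)
    let L2 : K →ₗ[ZMod q] V := (Φ : K →ₗ[ZMod q] V).comp
      (LinearMap.mulRight (ZMod q) (Φ.symm (ρ x (Φ 1))))
    rcases hz ((LinearMap.eqLocus L1 L2).map (Φ : K →ₗ[ZMod q] V)) (fun h hh u hu => by
      obtain ⟨n, rfl⟩ := mem_powers_iff_mem_zpowers.2 hh
      obtain ⟨t, ht, rfl⟩ := hu
      refine ⟨ω ^ n * t, ?_, (apply_pow hΦ n t).symm⟩
      simp only [SetLike.mem_coe, LinearMap.mem_eqLocus, L1, L2, LinearMap.comp_apply,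
        LinearEquiv.coe_coe, LinearMap.mulRight_apply] at ht ⊢
      rw [← apply_pow hΦ, ← Module.End.mul_apply, ← map_mul, (hx.pow_right n).eq, map_mul,
        Module.End.mul_apply, ht, apply_pow hΦ, mul_assoc]) with h | h
    · have h1 : Φ 1 ∈ (⊥ : Submodule (ZMod q) V) := h ▸ ⟨1, by simp [L1, L2], rfl⟩
      exact absurd (Φ.injective (((Submodule.mem_bot _).1 h1).trans (map_zero Φ).symm)) one_ne_zero
    · intro t
      obtain ⟨t', ht', he⟩ := (h.symm ▸ Submodule.mem_top :
        Φ t ∈ (LinearMap.eqLocus L1 L2).map (Φ : K →ₗ[ZMod q] V))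
      rw [← Φ.injective he]
      simpa [L1, L2] using ht'
  refine hinj (LinearMap.ext fun u => ?_)
  obtain ⟨t, rfl⟩ := Φ.surjective u
  obtain ⟨cx, hcx⟩ : ∃ c, ∀ s, ρ x (Φ s) = Φ (s * c) := ⟨_, key x hx⟩
  obtain ⟨cy, hcy⟩ : ∃ c, ∀ s, ρ y (Φ s) = Φ (s * c) := ⟨_, key y hy⟩
  rw [map_mul, map_mul, Module.End.mul_apply, Module.End.mul_apply, hcy, hcx, hcx, hcy,
    mul_right_comm]

theorem isSolvable_of_pow_irred (hinj : Function.Injective ρ)
    (hco : (Nat.card A).Coprime q) (hρ : PPowOrbits p ρ) (hp2 : p ≠ 2) [Nontrivial V]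
    (IHA : ∀ N : Subgroup A, N.Normal → N ≠ ⊤ → Group.IsSolvable N)
    (P : Sylow p A) {w : A} (hP : (P : Subgroup A) = Subgroup.zpowers w) {a : ℕ}
    (hw : orderOf w = p ^ (a + 1)) (hzirr : IrredOn ρ (Subgroup.zpowers (w ^ (p ^ a)))) :
    Group.IsSolvable A := by
  classical
  have hpr : p.Prime := hp.out
  set z := w ^ (p ^ a) with hzdef
  have hzP : z ∈ (P : Subgroup A) := hP ▸ Subgroup.npow_mem_zpowers w _
  have hz1 : z ≠ 1 := fun h => by
    have h1 := orderOf_dvd_of_pow_eq_one (hzdef ▸ h : w ^ (p ^ a) = 1)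
    rw [hw] at h1
    exact absurd (Nat.le_of_dvd (pow_pos hpr.pos _) h1)
      (not_le.2 (Nat.pow_lt_pow_right hpr.one_lt (by omega)))
  have hzp : z ^ p = 1 := by rw [hzdef, ← pow_mul, ← pow_succ, ← hw, pow_orderOf_eq_one]
  have huniq : ∀ x ∈ (P : Subgroup A), x ^ p = 1 → x ∈ Subgroup.zpowers z := by
    intro x hx hxp
    rw [hP] at hx
    obtain ⟨n, rfl⟩ := mem_powers_iff_mem_zpowers.2 hx
    have h1 : p ^ a * p ∣ n * p := by
      rw [← pow_succ, ← hw]
      exact orderOf_dvd_of_pow_eq_one (by rw [pow_mul]; exact hxp)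
    obtain ⟨j, rfl⟩ := Nat.dvd_of_mul_dvd_mul_right hpr.pos h1
    show w ^ (p ^ a * j) ∈ _
    rw [pow_mul, ← hzdef]
    exact Subgroup.npow_mem_zpowers z j
  have hfpf : ∀ h ∈ (P : Subgroup A), h ≠ 1 → ∀ v, ρ h v = v → v = 0 := by
    intro h hh h1 v hv
    refine hzirr.fixed_eq_zero hinj h1 (fun x hx => ?_) hv
    rw [hP] at hh
    obtain ⟨n, rfl⟩ := mem_powers_iff_mem_zpowers.2 hh
    obtain ⟨j, rfl⟩ := mem_powers_iff_mem_zpowers.2 hx
    simp only [hzdef, ← pow_mul, ← pow_add, add_comm]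
  by_cases hsimple : ∀ N : Subgroup A, N.Normal → N = ⊥ ∨ N = ⊤
  swap
  · push Not at hsimple
    obtain ⟨N, hN, hNbot, hNtop⟩ := hsimple
    haveI := hN
    have hNsol := IHA N hN hNtop
    set R₀ := (P : Subgroup A).subgroupOf N with hR₀
    have hR₀p : IsPGroup p R₀ := P.2.comap_subtype
    have hR₀i : ¬ p ∣ R₀.index := fun h => P.not_dvd_index
      (h.trans (Cores.relIndex_dvd_index_right_normal _ N))
    have hzN : z ∈ N := by
      by_contra hzN
      have htriv : ∀ x : N, x ∈ R₀ → x = 1 := by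
        intro x hx
        by_contra hx1
        obtain ⟨j, hj⟩ := IsPGroup.iff_orderOf.1 hR₀p ⟨x, hx⟩
        rw [Subgroup.orderOf_mk] at hj
        rcases Nat.eq_zero_or_pos j with rfl | hj0
        · exact hx1 (orderOf_eq_one_iff.1 (by simpa using hj))
        obtain ⟨i, rfl⟩ : ∃ i, j = i + 1 := ⟨j - 1, by omega⟩
        set y := x ^ (p ^ i) with hy
        have hyp : y ^ p = 1 := by rw [hy, ← pow_mul, ← pow_succ, ← hj, pow_orderOf_eq_one]
        have hy1 : y ≠ 1 := fun h => by
          have h1 := orderOf_dvd_of_pow_eq_one (hy ▸ h : x ^ (p ^ i) = 1)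
          rw [hj] at h1
          exact absurd (Nat.le_of_dvd (pow_pos hpr.pos _) h1)
            (not_le.2 (Nat.pow_lt_pow_right hpr.one_lt (by omega)))
        have hyP : (y : A) ∈ (P : Subgroup A) := by
          rw [hy, Subgroup.coe_pow]; exact pow_mem hx _
        have h2 := huniq _ hyP (by rw [← Subgroup.coe_pow, hyp, Subgroup.coe_one])
        have hyne : (y : A) ≠ 1 := fun h => hy1 (Subtype.ext h)
        have hzmem : z ∈ Subgroup.zpowers (y : A) := mem_zpowers_of_prime_card
          (G := Subgroup.zpowers z) (p := p) (by rw [Nat.card_zpowers, orderOf_eq_prime hzp hz1])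
          (g := ⟨y, h2⟩) (g' := ⟨z, Subgroup.mem_zpowers z⟩) (fun h => hyne (congrArg Subtype.val h))
          |> fun h => by
            obtain ⟨k, hk⟩ := Subgroup.mem_zpowers_iff.1 h
            exact Subgroup.mem_zpowers_iff.2 ⟨k, by simpa using congrArg Subtype.val hk⟩
        exact hzN ((Subgroup.zpowers_le.2 y.2) hzmem)
      have hNp : ¬ p ∣ Nat.card N := by
        intro h
        rw [← R₀.card_mul_index] at h
        rcases hpr.dvd_mul.1 h with h | h
        · have : R₀ = ⊥ := (Subgroup.eq_bot_iff_forall _).2 htriv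
          rw [this, Subgroup.card_bot] at h
          exact hpr.not_dvd_one h
        · exact hR₀i h
      refine hNbot ((Subgroup.eq_bot_iff_forall _).2 fun x hx => hinj ?_)
      rw [map_one]
      ext v
      obtain ⟨k, hk⟩ := hρ v
      have h1 : (vstab ρ v).relIndex N = 1 := by
        refine Nat.eq_one_of_dvd_coprimes ?_ (hk ▸ Cores.relIndex_dvd_index_right_normal _ N)
          (Subgroup.relIndex_dvd_card _ N)
        exact Nat.Coprime.pow_left _ (hpr.coprime_iff_not_dvd.2 hNp)
      exact (Subgroup.relIndex_eq_one.1 h1 hx : _)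
    let R : Sylow p N := hR₀p.toSylow hR₀i
    have hfr := Sylow.normalizer_sup_eq_top R
    set M := Subgroup.normalizer (((R : Subgroup N).map N.subtype : Subgroup A) : Set A) with hM
    have hMz : ∀ g ∈ M, ∃ n : ℕ, g * z * g⁻¹ = z ^ n := by
      intro g hg
      have hzR : z ∈ (R : Subgroup N).map N.subtype := ⟨⟨z, hzN⟩, hzP, rfl⟩
      obtain ⟨y, hy, hye⟩ := (Subgroup.mem_normalizer_iff.1 hg z).1 hzR
      have : g * z * g⁻¹ ∈ Subgroup.zpowers z := huniq _ (hye ▸ hy) (by
        rw [conj_pow, hzp, mul_one, mul_inv_cancel])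
      obtain ⟨n, hn⟩ := mem_powers_iff_mem_zpowers.2 this
      exact ⟨n, hn.symm⟩
    have hMsol : Group.IsSolvable M := by
      refine (Group.isSolvable_def (G := M)).2 ⟨2, eq_bot_iff.2 ?_⟩
      let C := (Subgroup.centralizer ({z} : Set A)).subgroupOf M
      have h1 : derivedSeries M 1 ≤ C := by
        rw [derivedSeries_one, commutator_def, Subgroup.commutator_le]
        intro g _ h _
        show ((⁅g, h⁆ : M) : A) ∈ Subgroup.centralizer ({z} : Set A)
        rw [Subgroup.mem_centralizer_singleton_iff]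
        obtain ⟨i, hi⟩ := hMz _ (g⁻¹).2
        obtain ⟨j, hj⟩ := hMz _ (h⁻¹).2
        simp only [Subgroup.coe_inv, inv_inv] at hi hj
        set g' : A := (g : A)
        set h' : A := (h : A)
        have e1 : g'⁻¹ * h'⁻¹ * z * h' * g' = z ^ (i * j) := by
          calc g'⁻¹ * h'⁻¹ * z * h' * g' = g'⁻¹ * (h'⁻¹ * z * h') * g' := by group
            _ = g'⁻¹ * z ^ j * g' := by rw [hj]
            _ = (g'⁻¹ * z * g') ^ j := by
              have := (conj_pow (a := g'⁻¹) (b := z) (i := j))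
              rw [inv_inv] at this
              exact this.symm
            _ = z ^ (i * j) := by rw [hi, ← pow_mul]
        have e2 : h'⁻¹ * g'⁻¹ * z * g' * h' = z ^ (i * j) := by
          calc h'⁻¹ * g'⁻¹ * z * g' * h' = h'⁻¹ * (g'⁻¹ * z * g') * h' := by group
            _ = h'⁻¹ * z ^ i * h' := by rw [hi]
            _ = (h'⁻¹ * z * h') ^ i := by
              have := (conj_pow (a := h'⁻¹) (b := z) (i := i))
              rw [inv_inv] at this
              exact this.symm
            _ = z ^ (i * j) := by rw [hj, ← pow_mul, mul_comm]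
        have e3 : ((⁅g, h⁆ : M) : A) * z * ((⁅g, h⁆ : M) : A)⁻¹ = z := by
          calc ((⁅g, h⁆ : M) : A) * z * ((⁅g, h⁆ : M) : A)⁻¹
              = g' * h' * (g'⁻¹ * h'⁻¹ * z * h' * g') * (h'⁻¹ * g'⁻¹) := by
                simp [commutatorElement_def, g', h', mul_assoc]
            _ = g' * h' * (h'⁻¹ * g'⁻¹ * z * g' * h') * (h'⁻¹ * g'⁻¹) := by rw [e1, e2]
            _ = z := by group
        exact mul_inv_eq_iff_eq_mul.1 e3
      show ⁅derivedSeries M 1, derivedSeries M 1⁆ ≤ ⊥
      rw [Subgroup.commutator_le]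
      intro g hg h hh
      rw [Subgroup.mem_bot, commutatorElement_eq_one_iff_mul_comm]
      exact Subtype.ext (commute_of_irred hinj hzirr
        (Subgroup.mem_centralizer_singleton_iff.1 (h1 hg))
        (Subgroup.mem_centralizer_singleton_iff.1 (h1 hh))).eq
    haveI := hMsol
    refine (Group.isSolvable_iff_subgroup_quotient N).2 ⟨hNsol, Group.isSolvable_of_surjective
      (f := (QuotientGroup.mk' N).comp M.subtype) fun x => ?_⟩
    obtain ⟨x, rfl⟩ := QuotientGroup.mk_surjective x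
    obtain ⟨m, hm, n, hn, rfl⟩ := Subgroup.mem_sup_of_normal_right.1
      (show x ∈ M ⊔ N from hfr ▸ Subgroup.mem_top x)
    exact ⟨⟨m, hm⟩, QuotientGroup.eq.2 (by simpa using hn)⟩
  -- no proper normal subgroup: use the permutations of an orbit
  haveI := Fintype.ofFinite (P : Subgroup A)
  obtain ⟨v0, hv0⟩ := exists_ne (0 : V)
  let orb : V → Finset V := fun v => Finset.univ.image (fun h : (P : Subgroup A) => ρ (h : A) v)
  have horb : ∀ g v, ρ g v ∈ orb v := fun g v => by
    obtain ⟨h, hh, he⟩ := exists_sylow_apply hρ P g v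
    exact Finset.mem_image.2 ⟨⟨h, hh⟩, Finset.mem_univ _, he.symm⟩
  have horb' : ∀ v, ∀ u ∈ orb v, ∃ h : A, ρ h v = u := fun v u hu => by
    obtain ⟨h, -, he⟩ := Finset.mem_image.1 hu
    exact ⟨h, he⟩
  have hstable : ∀ v g, ∀ u ∈ orb v, ρ g u ∈ orb v := fun v g u hu => by
    obtain ⟨h, rfl⟩ := horb' v u hu
    rw [← Module.End.mul_apply, ← map_mul]
    exact horb _ v
  have hPcard : Fintype.card (P : Subgroup A) = p ^ (a + 1) := by
    rw [← Nat.card_eq_fintype_card, hP, Nat.card_zpowers, hw]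
  have hcard : ∀ v, v ≠ 0 → (orb v).card = p ^ (a + 1) := fun v hv => by
    rw [Finset.card_image_of_injective _ ?_, Finset.card_univ, hPcard]
    intro h h' he
    by_contra hne
    refine hv (hfpf ((h'⁻¹ * h : (P : Subgroup A)) : A) (h'⁻¹ * h).2 (fun h1 => hne ?_) v ?_)
    · exact ((inv_mul_eq_one.1 (Subtype.ext h1 : h'⁻¹ * h = 1))).symm
    · rw [Subgroup.coe_mul, Subgroup.coe_inv, map_mul, Module.End.mul_apply]
      simp only at he
      rw [he, Representation.inv_self_apply]
  let O := orb v0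
  letI : SMul A O := ⟨fun g u => ⟨ρ g u, hstable v0 g u u.2⟩⟩
  letI : MulAction A O :=
    { one_smul := fun u => Subtype.ext (by show ρ 1 (u : V) = u; simp)
      mul_smul := fun g h u => Subtype.ext (by
        show ρ (g * h) (u : V) = ρ g (ρ h u); simp [map_mul]) }
  set φ := MulAction.toPermHom A O with hφ
  let v0' : O := ⟨v0, by simpa using horb 1 v0⟩
  have htr' : ∀ u : O, ∃ g : A, g • v0' = u := fun u => by
    obtain ⟨g, hg⟩ := horb' v0 u u.2
    exact ⟨g, Subtype.ext hg⟩
  have hφinj : Function.Injective φ := by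
    rw [← MonoidHom.ker_eq_bot_iff]
    refine (hsimple _ (MonoidHom.normal_ker _)).resolve_right fun h => ?_
    have h1 : φ z = 1 := MonoidHom.mem_ker.1 (h ▸ Subgroup.mem_top z)
    have h2 : z • v0' = v0' := Equiv.ext_iff.1 h1 v0'
    exact hv0 (hfpf z hzP hz1 v0 (congrArg Subtype.val h2))
  have hOcard : Fintype.card O = p ^ (a + 1) := by rw [Fintype.card_coe]; exact hcard v0 hv0
  let G := φ.range
  let e : A ≃* G := MonoidHom.ofInjective hφinj
  haveI htr : MulAction.IsPretransitive G O := ⟨fun x y => by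
    obtain ⟨g, rfl⟩ := htr' x
    obtain ⟨h, rfl⟩ := htr' y
    refine ⟨⟨φ (h * g⁻¹), h * g⁻¹, rfl⟩, ?_⟩
    show (h * g⁻¹) • g • v0' = h • v0'
    rw [← mul_smul, inv_mul_cancel_right]⟩
  by_cases h2t : MulAction.IsMultiplyPretransitive G O 2
  · exfalso
    rw [MulAction.is_two_pretransitive_iff] at h2t
    have hirrB := hzirr
    obtain ⟨b, hb, c, hc, hbc⟩ := Finset.one_lt_card.1 (show 1 < O.card by
      rw [hcard v0 hv0]; exact Nat.one_lt_pow (by omega) hpr.one_lt)
    have h2 : ∀ a ∈ O, ∀ b ∈ O, a ≠ b → ∀ c ∈ O, ∀ d ∈ O, c ≠ d →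
        ∃ g, ρ g a = c ∧ ρ g b = d := by
      intro x hx y hy hxy x' hx' y' hy' hxy'
      obtain ⟨⟨_, g, rfl⟩, h1, h3⟩ := h2t (a := (⟨x, hx⟩ : O)) (b := ⟨y, hy⟩) (c := ⟨x', hx'⟩)
        (d := ⟨y', hy'⟩) (fun h => hxy (congrArg Subtype.val h))
        (fun h => hxy' (congrArg Subtype.val h))
      exact ⟨g, congrArg Subtype.val h1, congrArg Subtype.val h3⟩
    refine not_two_transitive hco _ hirrB O (orb (b - c)) (p ^ (a + 1)) ?_
      ((hpr.odd_of_ne_two hp2).pow) (hcard v0 hv0) (hcard _ (sub_ne_zero.2 hbc)) ?_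
      (hstable v0) (hstable _) ?_ ?_ h2
    · have : 3 ≤ p := by have := hpr.two_le; omega
      exact this.trans (Nat.le_self_pow (by omega) p)
    · intro h
      obtain ⟨g, hg⟩ := horb' _ _ h
      exact sub_ne_zero.2 hbc ((ρ.apply_bijective g).1 (hg.trans (map_zero _).symm))
    · intro x hx y hy hxy
      obtain ⟨g, h1, h3⟩ := h2 b hb c hc hbc x hx y hy hxy
      rw [← h1, ← h3, ← map_sub]
      exact horb g _
    · intro d hd d' hd'
      obtain ⟨g, rfl⟩ := horb' _ _ hd
      obtain ⟨g', rfl⟩ := horb' _ _ hd'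
      exact ⟨g' * g⁻¹, by rw [← Module.End.mul_apply, ← map_mul, inv_mul_cancel_right]⟩
  · rcases Nat.eq_zero_or_pos a with ha | ha
    · rcases S0675.result (α := O) (by rw [hOcard, ha, zero_add, pow_one]; exact hpr) G with h | h
      · haveI := h
        exact Group.isSolvable_of_surjective (f := e.symm.toMonoidHom) e.symm.surjective
      · exact absurd h h2t
    · exfalso
      have h := (S3972.result p (a + 1) hpr (by omega) hOcard G htr h2t (e w) (by
        rw [MulEquiv.orderOf_eq, hw])).2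
      set C := Subgroup.normalClosure ({(e w) ^ (p ^ (a + 1 - 1))} : Set G)
      have hC : C.comap e.toMonoidHom = ⊤ := by
        refine (hsimple _ ((Subgroup.normalClosure_normal).comap _)).resolve_left fun hb => ?_
        have : z ∈ C.comap e.toMonoidHom := Subgroup.subset_normalClosure (by
          simp [hzdef, map_pow])
        rw [hb, Subgroup.mem_bot] at this
        exact hz1 this
      refine h ⟨fun x y => ?_⟩
      obtain ⟨⟨_, g, rfl⟩, hg⟩ := MulAction.exists_smul_eq G x y
      exact ⟨⟨e g, (hC ▸ Subgroup.mem_top g : g ∈ C.comap e.toMonoidHom)⟩, hg⟩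

end Cfsg.Agent.BaerGroup
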