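import Mathlib.FieldTheory.IntermediateField.Adjoin.Basic
import Mathlib.RingTheory.Norm.Basic
import Mathlib.FieldTheory.KummerPolynomial
import Mathlib.RingTheory.IntegralDomain
import Cfsg.Agent.Lib.BaerGroup.Blocks

/-!
An irreducible cyclic group acts as multiplications in a finite field; blocks from a Kummer
extension.
-/

set_option autoImplicit false
set_option linter.unusedSectionVars false
set_option linter.style.haveILetI false

namespace Cfsg.Agent.BaerGroup

universe u v

open Polynomial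

variable {q : ℕ} [hq : Fact q.Prime] {p : ℕ} [hp : Fact p.Prime] {A : Type u} [Group A] [Finite A]
  {V : Type v} [AddCommGroup V] [Module (ZMod q) V] [Finite V] {ρ : Representation (ZMod q) A V}

theorem exists_field [Nontrivial V] {w : A} (hirr : IrredOn ρ (Subgroup.zpowers w)) :
    ∃ (K : Type v) (_ : Field K) (_ : Algebra (ZMod q) K) (_ : Finite K) (ω : K)
      (Φ : K ≃ₗ[ZMod q] V), ∀ x : K, ρ w (Φ x) = Φ (ω * x) := by
  classical
  obtain ⟨v0, hv0⟩ := exists_ne (0 : V)
  set K := Algebra.adjoin (ZMod q) ({ρ w} : Set (Module.End (ZMod q) V)) with hK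
  haveI hcomm : IsMulCommutative K := Algebra.isMulCommutative_adjoin (ZMod q) (by
    rintro x rfl y rfl; rfl)
  let ω : K := ⟨ρ w, Algebra.subset_adjoin rfl⟩
  have hcw : ∀ (a : K) (u : V), (a : Module.End (ZMod q) V) (ρ w u) = ρ w ((a : Module.End (ZMod q) V) u) :=
    fun a u => LinearMap.congr_fun (congrArg Subtype.val (hcomm.is_comm.comm a ω)) u
  have hpow : ∀ (U : Submodule (ZMod q) V), (∀ u ∈ U, ρ w u ∈ U) →
      ∀ h ∈ Subgroup.zpowers w, ∀ u ∈ U, ρ h u ∈ U := by
    intro U hU h hh
    obtain ⟨n, rfl⟩ := mem_powers_iff_mem_zpowers.2 hh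
    induction n with
    | zero => simp
    | succ n ih =>
      intro u hu
      show ρ (w ^ (n + 1)) u ∈ U
      rw [pow_succ', map_mul, Module.End.mul_apply]
      exact hU _ (ih (pow_mem (Subgroup.mem_zpowers w) n) u hu)
  -- nonzero elements are injective
  have hinjK : ∀ a : K, a ≠ 0 → ∀ u, (a : Module.End (ZMod q) V) u = 0 → u = 0 := by
    intro a ha u hu
    rcases hirr (LinearMap.ker (a : Module.End (ZMod q) V)) (hpow _ (fun u hu => by
      rw [LinearMap.mem_ker] at hu ⊢
      rw [hcw a u, hu, map_zero])) with h | h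
    · exact (Submodule.mem_bot _).1 (h ▸ LinearMap.mem_ker.2 hu)
    · exact absurd (Subtype.ext (LinearMap.ker_eq_top.1 h)) ha
  haveI : Finite (Module.End (ZMod q) V) := Finite.of_injective _ DFunLike.coe_injective
  haveI : Finite K := Subtype.finite
  letI : CommRing K := { (inferInstance : Ring K) with mul_comm := hcomm.is_comm.comm }
  haveI : Nontrivial K := ⟨⟨0, 1, fun h => hv0 (by
    have := LinearMap.congr_fun (congrArg Subtype.val h) v0
    simpa using this.symm)⟩⟩
  haveI : NoZeroDivisors K := ⟨fun {a b} h => or_iff_not_imp_left.2 fun ha => Subtype.ext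
    (LinearMap.ext fun u => hinjK a ha _ (LinearMap.congr_fun (congrArg Subtype.val h) u))⟩
  haveI : IsDomain K := NoZeroDivisors.to_isDomain K
  let ev : K →ₗ[ZMod q] V :=
    { toFun := fun a => (a : Module.End (ZMod q) V) v0
      map_add' := fun a b => rfl
      map_smul' := fun c a => rfl }
  have hev : Function.Bijective ev := by
    refine ⟨(injective_iff_map_eq_zero ev).2 fun a ha => ?_, ?_⟩
    · by_contra h
      exact hv0 (hinjK a h v0 ha)
    · rw [← LinearMap.range_eq_top]
      refine (hirr (LinearMap.range ev) (hpow _ ?_)).resolve_left fun h => hv0 ?_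
      · rintro _ ⟨a, rfl⟩
        exact ⟨ω * a, rfl⟩
      · have : v0 ∈ LinearMap.range ev := ⟨1, rfl⟩
        rwa [h, Submodule.mem_bot] at this
  letI : Field K := (Finite.isField_of_domain K).toField
  exact ⟨K, inferInstance, inferInstance, inferInstance, ω, LinearEquiv.ofBijective ev hev,
    fun x => rfl⟩

section

variable {K : Type v} [Field K] [Algebra (ZMod q) K] [Finite K] {w : A} {ω : K}
  {Φ : K ≃ₗ[ZMod q] V}

theorem apply_pow (hΦ : ∀ x : K, ρ w (Φ x) = Φ (ω * x)) (n : ℕ) (x : K) :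
    ρ (w ^ n) (Φ x) = Φ (ω ^ n * x) := by
  induction n with
  | zero => simp
  | succ n ih => rw [pow_succ', map_mul, Module.End.mul_apply, ih, hΦ, pow_succ', mul_assoc]

theorem pow_eq_one_iff' (hinj : Function.Injective ρ) (hΦ : ∀ x : K, ρ w (Φ x) = Φ (ω * x)) (n : ℕ) :
    ω ^ n = 1 ↔ w ^ n = 1 := by
  constructor
  · intro h
    refine hinj ?_
    rw [map_one]
    ext u
    obtain ⟨x, rfl⟩ := Φ.surjective u
    rw [apply_pow hΦ, h, one_mul]
    rfl
  · intro h
    have h1 := apply_pow hΦ n 1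
    rw [h, map_one, Module.End.one_apply, mul_one] at h1
    exact (Φ.injective h1).symm

/-- A power of `w` generating the field acts irreducibly. -/
theorem irredOn_of_adjoin (hΦ : ∀ x : K, ρ w (Φ x) = Φ (ω * x)) (n : ℕ)
    (htop : IntermediateField.adjoin (ZMod q) {ω ^ n} = ⊤) :
    IrredOn ρ (Subgroup.zpowers (w ^ n)) := by
  intro U hU
  by_cases hU0 : U = ⊥
  · exact Or.inl hU0
  refine Or.inr (eq_top_iff.2 fun u _ => ?_)
  obtain ⟨u0, hu0, hne⟩ := Submodule.exists_mem_ne_zero_of_ne_bot hU0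
  let S : Subalgebra (ZMod q) K :=
    { carrier := {a | ∀ x, Φ x ∈ U → Φ (a * x) ∈ U}
      mul_mem' := fun {a b} ha hb x hx => by rw [mul_assoc]; exact ha _ (hb x hx)
      add_mem' := fun {a b} ha hb x hx => by
        rw [add_mul, map_add]; exact U.add_mem (ha x hx) (hb x hx)
      algebraMap_mem' := fun c x hx => by
        rw [← Algebra.smul_def, map_smul]; exact U.smul_mem c hx }
  have hS : S = ⊤ := by
    have h1 : Algebra.adjoin (ZMod q) {ω ^ n} ≤ S :=
      Algebra.adjoin_le (Set.singleton_subset_iff.2 fun x hx => by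
        rw [← apply_pow hΦ]; exact hU _ (Subgroup.mem_zpowers _) _ hx)
    rw [← IntermediateField.adjoin_simple_toSubalgebra_of_isAlgebraic
      (IsAlgebraic.of_finite (ZMod q) (ω ^ n)), htop] at h1
    exact eq_top_iff.2 fun a _ => h1 trivial
  obtain ⟨x0, rfl⟩ := Φ.surjective u0
  have hx0 : x0 ≠ 0 := fun h => hne (by simp [h])
  obtain ⟨x, rfl⟩ := Φ.surjective u
  have := (hS ▸ Algebra.mem_top : x / x0 ∈ S) x0 hu0
  rwa [div_mul_cancel₀ _ hx0] at this

/-- The `p`-th roots of unity lie in any subfield containing a primitive one. -/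
theorem mem_of_pow_eq {F : IntermediateField (ZMod q) K} {ζ c b : K} (hζ : IsPrimitiveRoot ζ p)
    (hζF : ζ ∈ F) (hb : b ∈ F) (hcb : c ^ p = b ^ p) : c ∈ F := by
  haveI : NeZero p := ⟨hp.out.ne_zero⟩
  rcases eq_or_ne b 0 with rfl | hb0
  · rw [zero_pow hp.out.ne_zero] at hcb
    rw [eq_zero_of_pow_eq_zero hcb]
    exact zero_mem F
  obtain ⟨i, -, hi⟩ := hζ.eq_pow_of_pow_eq_one (ξ := c / b) (by
    rw [div_pow, hcb, div_self (pow_ne_zero _ hb0)])
  rw [← div_mul_cancel₀ c hb0, ← hi]
  exact mul_mem (pow_mem hζF i) hb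

theorem minpoly_natDegree {F : IntermediateField (ZMod q) K} {ζ c : K} (hζ : IsPrimitiveRoot ζ p)
    (hζF : ζ ∈ F) (hc : c ∉ F) (hcp : c ^ p ∈ F) :
    minpoly F c = X ^ p - C (⟨c ^ p, hcp⟩ : F) := by
  refine (minpoly.eq_of_irreducible_of_monic (X_pow_sub_C_irreducible_of_prime hp.out
    fun b hb => hc ?_) ?_ (monic_X_pow_sub_C _ hp.out.ne_zero)).symm
  · refine mem_of_pow_eq hζ hζF b.2 ?_
    exact (congrArg Subtype.val hb).symm
  · simp [IntermediateField.algebraMap_apply]

/-- Descent along `p`-th powers in a field, `p` odd. -/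
theorem adjoin_pow_eq_top (hp2 : p ≠ 2) {ζ c d : K} (hζ : IsPrimitiveRoot ζ p)
    (hd : d ^ p = c) (hζc : ζ ∈ IntermediateField.adjoin (ZMod q) {c ^ p})
    (htop : IntermediateField.adjoin (ZMod q) {c} = ⊤) :
    IntermediateField.adjoin (ZMod q) {c ^ p} = ⊤ := by
  set F := IntermediateField.adjoin (ZMod q) {c ^ p} with hF
  have hcp : c ^ p ∈ F := IntermediateField.mem_adjoin_simple_self _ _
  suffices hc : c ∈ F by
    rw [eq_top_iff, ← htop, IntermediateField.adjoin_le_iff, Set.singleton_subset_iff]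
    exact hc
  by_contra hc
  have hmin := minpoly_natDegree hζ hζc hc hcp
  have hint : IsIntegral F c := Algebra.IsIntegral.isIntegral c
  have hgen : Algebra.adjoin F ({c} : Set K) = ⊤ := by
    rw [eq_top_iff]
    intro x _
    have hx : x ∈ Algebra.adjoin (ZMod q) ({c} : Set K) := by
      rw [← IntermediateField.adjoin_simple_toSubalgebra_of_isAlgebraic
        (IsAlgebraic.of_finite (ZMod q) c), htop]
      trivial
    exact Algebra.adjoin_induction (fun y hy => Algebra.subset_adjoin hy)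
      (fun r => by
        rw [IsScalarTower.algebraMap_apply (ZMod q) F K]
        exact Subalgebra.algebraMap_mem _ _)
      (fun a b _ _ ha hb => add_mem ha hb) (fun a b _ _ ha hb => mul_mem ha hb) hx
  let pb : PowerBasis F K := PowerBasis.ofAdjoinEqTop hint hgen
  have hgen' : pb.gen = c := by simp [pb]
  have hN : Algebra.norm F c = (⟨c ^ p, hcp⟩ : F) := by
    have h := Algebra.PowerBasis.norm_gen_eq_coeff_zero_minpoly pb
    rw [← pb.natDegree_minpoly, hgen', hmin, natDegree_X_pow_sub_C] at h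
    rw [h, (hp.out.odd_of_ne_two hp2).neg_one_pow]
    simp [coeff_X_pow, hp.out.ne_zero.symm]
  have h2 : (Algebra.norm F d : K) ^ p = c ^ p := by
    have h3 : (Algebra.norm F d) ^ p = (⟨c ^ p, hcp⟩ : F) := by rw [← map_pow, hd, hN]
    have h3 := congrArg Subtype.val h3
    simpa using h3
  exact hc (mem_of_pow_eq hζ hζc (Algebra.norm F d).2 h2.symm)

end

end Cfsg.Agent.BaerGroup
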