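import Mathlib.RingTheory.PowerBasis
import Cfsg.Agent.Lib.BaerGroup.Field

/-!
An irreducible cyclic Sylow `p`-subgroup, `p` odd: blocks, or the subgroup of order `p` is
irreducible.
-/

set_option autoImplicit false
set_option linter.unusedSectionVars false
set_option linter.style.haveILetI false

namespace Cfsg.Agent.BaerGroup

universe u v

open Polynomial

variable {q : ℕ} [hq : Fact q.Prime] {p : ℕ} [hp : Fact p.Prime] {A : Type u} [Group A] [Finite A]
  {V : Type v} [AddCommGroup V] [Module (ZMod q) V] [Finite V] {ρ : Representation (ZMod q) A V}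

theorem adjoin_eq_top {K : Type v} [Field K] [Algebra (ZMod q) K] [Finite K] {w : A} {ω : K}
    {Φ : K ≃ₗ[ZMod q] V} (hΦ : ∀ x : K, ρ w (Φ x) = Φ (ω * x))
    (hirr : IrredOn ρ (Subgroup.zpowers w)) : IntermediateField.adjoin (ZMod q) {ω} = ⊤ := by
  set F := IntermediateField.adjoin (ZMod q) {ω}
  rcases hirr ((Subalgebra.toSubmodule F.toSubalgebra).map (Φ : K →ₗ[ZMod q] V))
    (fun h hh u hu => by
      obtain ⟨n, rfl⟩ := mem_powers_iff_mem_zpowers.2 hh
      obtain ⟨x, hx, rfl⟩ := hu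
      exact ⟨ω ^ n * x, (mul_mem (pow_mem (IntermediateField.mem_adjoin_simple_self _ _) n)
        (show x ∈ F from hx) : ω ^ n * x ∈ F),
        (apply_pow hΦ n x).symm⟩) with h | h
  · have : Φ (1 : K) ∈ (⊥ : Submodule (ZMod q) V) := h ▸ ⟨1, one_mem F, rfl⟩
    exact absurd (Φ.injective (((Submodule.mem_bot _).1 this).trans (map_zero Φ).symm)) one_ne_zero
  · rw [eq_top_iff]
    intro x _
    obtain ⟨y, hy, hxy⟩ := (h.symm ▸ Submodule.mem_top :
      Φ x ∈ (Subalgebra.toSubmodule F.toSubalgebra).map (Φ : K →ₗ[ZMod q] V))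
    exact Φ.injective hxy ▸ hy

theorem isSolvable_or_pow_irred (IH : SolvableBelow.{u, v} p q (Nat.card V))
    (hinj : Function.Injective ρ) (hco : (Nat.card A).Coprime q) (hρ : PPowOrbits p ρ)
    (hp2 : p ≠ 2) (P : Sylow p A) [Nontrivial V] (hirr : IrredOn ρ (P : Subgroup A)) {w : A}
    (hP : (P : Subgroup A) = Subgroup.zpowers w) {a : ℕ} (hw : orderOf w = p ^ (a + 1)) :
    Group.IsSolvable A ∨ IrredOn ρ (Subgroup.zpowers (w ^ (p ^ a))) := by
  classical
  have hirr' : IrredOn ρ (Subgroup.zpowers w) := hP ▸ hirr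
  obtain ⟨K, _, _, _, ω, Φ, hΦ⟩ := exists_field hirr'
  have hωord : orderOf ω = p ^ (a + 1) := by
    rw [← hw]
    exact orderOf_eq_orderOf_iff.2 (pow_eq_one_iff' hinj hΦ)
  have hζ : IsPrimitiveRoot (ω ^ (p ^ a)) p := by
    have h := IsPrimitiveRoot.orderOf ω
    rw [hωord] at h
    exact h.pow (pow_pos hp.out.pos _) (by rw [← pow_succ])
  have htop := adjoin_eq_top hΦ hirr'
  rcases Nat.eq_zero_or_pos a with rfl | ha
  · right; simpa using hirr'
  set F := IntermediateField.adjoin (ZMod q) {ω ^ p} with hF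
  by_cases hFtop : F = ⊤
  · right
    have hstep : ∀ j, j + 1 ≤ a → IntermediateField.adjoin (ZMod q) {ω ^ (p ^ (j + 1))} = ⊤ := by
      intro j
      induction j with
      | zero => intro _; rw [zero_add, pow_one]; exact hFtop
      | succ j ih =>
        intro hj
        rw [show ω ^ p ^ (j + 1 + 1) = (ω ^ p ^ (j + 1)) ^ p by rw [← pow_mul, ← pow_succ]]
        refine adjoin_pow_eq_top hp2 hζ (d := ω ^ p ^ j) (by rw [← pow_mul, ← pow_succ]) ?_
          (ih (by omega))
        obtain ⟨t, ht⟩ : ∃ t, a = j + 1 + 1 + t := ⟨a - (j + 1 + 1), by omega⟩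
        rw [show ω ^ p ^ a = ((ω ^ p ^ (j + 1)) ^ p) ^ (p ^ t) by
          rw [← pow_mul, ← pow_mul, ht]; congr 1; ring]
        exact pow_mem (IntermediateField.mem_adjoin_simple_self _ _) _
    refine irredOn_of_adjoin hΦ _ ?_
    obtain ⟨j, rfl⟩ : ∃ j, a = j + 1 := ⟨a - 1, by omega⟩
    exact hstep j le_rfl
  left
  have hωF : ω ∉ F := fun h => hFtop (by
    rw [eq_top_iff, ← htop, IntermediateField.adjoin_le_iff, Set.singleton_subset_iff]
    exact h)
  have hωp : ω ^ p ∈ F := IntermediateField.mem_adjoin_simple_self _ _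
  have hζF : ω ^ (p ^ a) ∈ F := by
    obtain ⟨j, rfl⟩ : ∃ j, a = j + 1 := ⟨a - 1, by omega⟩
    rw [pow_succ', pow_mul]
    exact pow_mem hωp _
  have hdeg : (minpoly F ω).natDegree = p := by
    rw [minpoly_natDegree hζ hζF hωF hωp, natDegree_X_pow_sub_C]
  have hli : LinearIndependent F (fun i : Fin p => ω ^ (i : ℕ)) := by
    have h := linearIndependent_pow (K := F) ω
    rw [hdeg] at h
    exact h
  let e : ZMod p → Fin p := fun i => ⟨i.val, ZMod.val_lt i⟩
  let W : ZMod p → Submodule (ZMod q) K :=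
    fun i => (Submodule.span F {ω ^ i.val}).restrictScalars (ZMod q)
  let U : ZMod p → Submodule (ZMod q) V := fun i => (W i).map (Φ : K →ₗ[ZMod q] V)
  have hU0 : ∀ i, U i ≠ ⊥ := fun i h => by
    have h1 : Φ (ω ^ i.val) ∈ U i := ⟨_, Submodule.mem_span_singleton_self _, rfl⟩
    rw [h, Submodule.mem_bot, LinearEquiv.map_eq_zero_iff] at h1
    exact hωF ((pow_eq_zero_iff'.1 h1).1 ▸ zero_mem F)
  have hind : iSupIndep U := by
    intro i
    rw [disjoint_iff_inf_le]
    rintro v ⟨hv, hv'⟩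
    obtain ⟨x, hx, rfl⟩ := hv
    obtain ⟨f, rfl⟩ := Submodule.mem_span_singleton.1 hx
    have h1 : f • ω ^ i.val ∈ Submodule.span F ((fun i : Fin p => ω ^ (i : ℕ)) '' {k | k ≠ e i}) := by
      have hle : (⨆ (j) (_ : j ≠ i), U j) ≤ ((Submodule.span F
          ((fun i : Fin p => ω ^ (i : ℕ)) '' {k | k ≠ e i})).restrictScalars (ZMod q)).map
            (Φ : K →ₗ[ZMod q] V) := by
        refine iSup₂_le fun j hj => Submodule.map_mono ?_
        intro y hy
        refine Submodule.span_mono (R := F) (Set.singleton_subset_iff.2 ?_) hy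
        exact ⟨e j, fun h => hj (ZMod.val_injective p (congrArg Fin.val h)), rfl⟩
      obtain ⟨y, hy, hyx⟩ := hle hv'
      exact Φ.injective hyx ▸ hy
    rw [Submodule.mem_bot]
    by_cases hf : f = 0
    · simp [hf]
    exfalso
    refine hli.notMem_span_image (s := {k | k ≠ e i}) (x := e i) (fun h => absurd rfl (show e i ≠ e i from h)) ?_
    have h2 := Submodule.smul_mem _ f⁻¹ h1
    rwa [inv_smul_smul₀ hf] at h2
  have hmove : ∀ h ∈ (P : Subgroup A), ∃ c : ZMod p, ∀ i, ∀ v ∈ U i, ρ h v ∈ U (i + c) := by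
    intro h hh
    rw [hP] at hh
    obtain ⟨n, rfl⟩ := mem_powers_iff_mem_zpowers.2 hh
    refine ⟨n, fun i v hv => ?_⟩
    obtain ⟨x, hx, rfl⟩ := hv
    refine ⟨ω ^ n * x, ?_, (apply_pow hΦ n x).symm⟩
    obtain ⟨f, rfl⟩ := Submodule.mem_span_singleton.1 hx
    refine Submodule.mem_span_singleton.2 ⟨f * ⟨ω ^ p, hωp⟩ ^ ((i.val + n) / p), ?_⟩
    have h2 : (i + (n : ZMod p)).val = (i.val + n) % p := by
      conv_lhs => rw [← ZMod.natCast_zmod_val i, ← Nat.cast_add, ZMod.val_natCast]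
    rw [IntermediateField.smul_def, IntermediateField.smul_def, smul_eq_mul, smul_eq_mul, h2]
    push_cast
    rw [← pow_mul, mul_assoc, ← pow_add, Nat.div_add_mod, mul_left_comm, ← pow_add, add_comm n]
  have htopU : ⨆ i, U i = ⊤ := by
    refine (hirr _ fun h hh v hv => ?_).resolve_left fun h => hU0 0 ?_
    · obtain ⟨c, hc⟩ := hmove h hh
      have hle : ⨆ i, U i ≤ (⨆ i, U i).comap (ρ h) := iSup_le fun i u hu =>
        Submodule.mem_iSup_of_mem (i + c) (hc i u hu)
      exact hle hv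
    · exact le_bot_iff.1 (h ▸ le_iSup U 0)
  exact isSolvable_of_blocks IH hinj hco hρ P U hU0 hind htopU hmove

end Cfsg.Agent.BaerGroup
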