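import Mathlib.LinearAlgebra.Determinant
import Mathlib.GroupTheory.Nilpotent
import Cfsg.Agent.Lib.BaerGroup.Rep
import Cfsg.Agent.Lib.Cores.Basic

/-!
Coprime groups with `p`-power orbits on a plane.
-/

set_option autoImplicit false
set_option linter.unusedSectionVars false
set_option linter.style.haveILetI false

namespace Cfsg.Agent.BaerGroup

universe u v

variable {q : ℕ} [hq : Fact q.Prime] {p : ℕ} [hp : Fact p.Prime] {A : Type u} [Group A] [Finite A]
  {V : Type v} [AddCommGroup V] [Module (ZMod q) V] [Finite V] {ρ : Representation (ZMod q) A V}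

theorem isSolvable_of_plane (hinj : Function.Injective ρ) (hco : (Nat.card A).Coprime q)
    (hρ : PPowOrbits p ρ) [Nontrivial V] (hdim : Nat.card V ≤ q ^ 2) : Group.IsSolvable A := by
  classical
  obtain ⟨v, hv⟩ := exists_ne (0 : V)
  have hfin : Module.finrank (ZMod q) V ≤ 2 := by
    rw [Module.natCard_eq_pow_finrank (K := ZMod q), Nat.card_eq_fintype_card, ZMod.card] at hdim
    exact (Nat.pow_le_pow_iff_right hq.out.one_lt).1 hdim
  -- commutators fixing a nonzero vector are trivial
  let d : A →* (ZMod q) := (LinearMap.det : (V →ₗ[ZMod q] V) →* ZMod q).comp ρ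
  have hfree : ∀ g ∈ commutator A, ρ g v = v → g = 1 := by
    intro g hg hgv
    set W := Submodule.span (ZMod q) ({v} : Set V) with hWdef
    have hfix : ∀ w ∈ W, ρ g w = w := fun w hw => by
      obtain ⟨c, rfl⟩ := Submodule.mem_span_singleton.1 hw
      rw [map_smul, hgv]
    have he : W ≤ W.comap (ρ g) := fun w hw => by rw [Submodule.mem_comap, hfix w hw]; exact hw
    refine eq_one_of_chain hinj hco W hfix fun w => ?_
    have hdet : LinearMap.det (ρ g) = 1 := by
      have : d.toHomUnits g = 1 := MonoidHom.mem_ker.1 (Abelianization.commutator_subset_ker _ hg)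
      simpa [d] using congrArg Units.val this
    have h1 := LinearMap.det_eq_det_mul_det W (ρ g) he
    have hres : (ρ g).restrict he = LinearMap.id := LinearMap.ext fun w => Subtype.ext (hfix w w.2)
    rw [hdet, hres, LinearMap.det_id, one_mul] at h1
    have hQ : Module.finrank (ZMod q) (V ⧸ W) ≤ 1 := by
      have h2 := W.finrank_quotient_add_finrank
      have h3 : Module.finrank (ZMod q) W = 1 := finrank_span_singleton hv
      omega
    rw [← Submodule.Quotient.eq]
    rcases Nat.le_one_iff_eq_zero_or_eq_one.1 hQ with h0 | h0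
    · haveI := Module.finrank_zero_iff.1 h0
      exact Subsingleton.elim _ _
    · obtain ⟨c, hc, -⟩ := LinearMap.existsUnique_eq_smul_id_of_finrank_eq_one h0 (W.mapQ W (ρ g) he)
      have hc1 : c = 1 := by
        rw [hc, LinearMap.det_smul, LinearMap.det_id, h0, pow_one, mul_one] at h1
        exact h1.symm
      have h4 := LinearMap.congr_fun hc (Submodule.Quotient.mk w)
      rw [hc1, one_smul] at h4
      simpa using h4
  have hp' : IsPGroup p (commutator A) := by
    obtain ⟨k, hk⟩ := hρ v
    refine IsPGroup.of_card_dvd_pow (n := k) ?_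
    rw [← hk]
    have h1 : (vstab ρ v).relIndex (commutator A) = Nat.card (commutator A) := by
      have : (vstab ρ v).subgroupOf (commutator A) = ⊥ := (Subgroup.eq_bot_iff_forall _).2
        fun g hg => Subtype.ext (hfree g g.2 hg)
      rw [Subgroup.relIndex, this, Subgroup.index_bot]
    exact h1 ▸ Cores.relIndex_dvd_index_right_normal _ _
  haveI := hp'.isNilpotent
  haveI : Group.IsSolvable (commutator A) := inferInstance
  exact (Group.isSolvable_iff_subgroup_quotient (commutator A)).2
    ⟨inferInstance, Group.isSolvable_of_comm fun a b => by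
      exact @mul_comm (Abelianization A) _ a b⟩

end Cfsg.Agent.BaerGroup
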