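import Mathlib.GroupTheory.Transfer
import Mathlib.FieldTheory.Finite.Basic
import Cfsg.Agent.Lib.BaerGroup.Kummer
import Cfsg.Agent.Lib.BaerGroup.Plane
import Cfsg.Agent.Lib.Cores.Basic
import Cfsg.Agent.Lib.PGroups.AbelianNormal
import Cfsg.Agent.Lib.PGroups.UniqueSubgroup

/-!
The case `p = 2`.
-/

set_option autoImplicit false
set_option linter.unusedSectionVars false
set_option linter.style.haveILetI false

namespace Cfsg.Agent.BaerGroup

universe u v

open Polynomial

variable {q : ℕ} [hq : Fact q.Prime] {A : Type u} [Group A] [Finite A]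
  {V : Type v} [AddCommGroup V] [Module (ZMod q) V] [Finite V] {ρ : Representation (ZMod q) A V}

/-- A reducible subgroup of index two of an irreducible Sylow `2`-subgroup gives two blocks. -/
theorem isSolvable_of_index_two (IH : SolvableBelow.{u, v} 2 q (Nat.card V))
    (hinj : Function.Injective ρ) (hco : (Nat.card A).Coprime q) (hρ : PPowOrbits 2 ρ)
    (P : Sylow 2 A) (hirr : IrredOn ρ (P : Subgroup A)) (B : Subgroup (P : Subgroup A))
    (hB : B.index = 2) (hred : ¬ IrredOn ρ (B.map (P : Subgroup A).subtype)) :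
    Group.IsSolvable A := by
  classical
  simp only [IrredOn, not_forall, not_or] at hred
  obtain ⟨U, hU, hU0, hU1⟩ := hred
  obtain ⟨y, hy⟩ : ∃ y : (P : Subgroup A), y ∉ B := by
    by_contra hcon
    push Not at hcon
    rw [show B = ⊤ from eq_top_iff.2 fun x _ => hcon x, Subgroup.index_top] at hB
    exact absurd hB (by norm_num)
  have hBU : ∀ b ∈ B, ∀ w ∈ U, ρ (b : A) w ∈ U := fun b hb w hw =>
    hU (b : A) ⟨b, hb, rfl⟩ w hw
  have hcoset : ∀ h : (P : Subgroup A), h ∉ B → (y⁻¹ * h ∈ B ∧ h * y ∈ B) := fun h hh =>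
    ⟨(Subgroup.mul_mem_iff_of_index_two hB).2 ⟨fun hy' => absurd ((inv_mem_iff).1 hy') hy,
      fun h' => absurd h' hh⟩, (Subgroup.mul_mem_iff_of_index_two hB).2
        ⟨fun h' => absurd h' hh, fun h' => absurd h' hy⟩⟩
  set U' := U.map (ρ (y : A)) with hU'
  -- movement
  have hin : ∀ h ∈ B, ∀ w ∈ U', ρ (h : A) w ∈ U' := by
    rintro h hh _ ⟨u, hu, rfl⟩
    have hconj : y⁻¹ * h * y ∈ B := (Subgroup.mul_mem_iff_of_index_two hB).2
      ⟨fun h' => absurd ((Subgroup.mul_mem_cancel_right B hh).1 h') (fun h'' => hy (inv_mem_iff.1 h'')),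
        fun h' => absurd h' hy⟩
    refine ⟨ρ ((y⁻¹ * h * y : (P : Subgroup A)) : A) u, hBU _ hconj u hu, ?_⟩
    rw [← Module.End.mul_apply, ← map_mul, ← Module.End.mul_apply, ← map_mul]
    simp [mul_assoc]
  have hout : ∀ h : (P : Subgroup A), h ∉ B → (∀ w ∈ U, ρ (h : A) w ∈ U') ∧
      ∀ w ∈ U', ρ (h : A) w ∈ U := by
    intro h hh
    refine ⟨fun w hw => ⟨ρ ((y⁻¹ * h : (P : Subgroup A)) : A) w, hBU _ (hcoset h hh).1 w hw, ?_⟩, ?_⟩
    · rw [← Module.End.mul_apply, ← map_mul]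
      simp
    · rintro _ ⟨u, hu, rfl⟩
      rw [← Module.End.mul_apply, ← map_mul]
      exact hBU _ (hcoset h hh).2 u hu
  have hinf : U ⊓ U' = ⊥ := by
    refine (hirr _ fun h hh w hw => ?_).resolve_right fun h => hU1 (eq_top_iff.2 (h ▸ inf_le_left))
    by_cases hb : (⟨h, hh⟩ : (P : Subgroup A)) ∈ B
    · exact ⟨hBU _ hb w hw.1, hin _ hb w hw.2⟩
    · exact ⟨(hout _ hb).2 w hw.2, (hout _ hb).1 w hw.1⟩
  have hsup : U ⊔ U' = ⊤ := by
    refine (hirr _ fun h hh w hw => ?_).resolve_left fun h => hU0 (le_bot_iff.1 (h ▸ le_sup_left))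
    obtain ⟨a, ha, b, hb', rfl⟩ := Submodule.mem_sup.1 hw
    rw [map_add]
    by_cases hb : (⟨h, hh⟩ : (P : Subgroup A)) ∈ B
    · exact add_mem (Submodule.mem_sup_left (hBU _ hb a ha))
        (Submodule.mem_sup_right (hin _ hb b hb'))
    · exact add_mem (Submodule.mem_sup_right ((hout _ hb).1 a ha))
        (Submodule.mem_sup_left ((hout _ hb).2 b hb'))
  have h01 : ∀ i : ZMod 2, i = 0 ∨ i = 1 := by decide
  let W : ZMod 2 → Submodule (ZMod q) V := fun i => if i = 0 then U else U'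
  have hW0 : W 0 = U := if_pos rfl
  have hW1 : W 1 = U' := if_neg one_ne_zero
  refine isSolvable_of_blocks IH hinj hco hρ P W (fun i => ?_) (fun i => ?_) ?_ (fun h hh => ?_)
  · rcases h01 i with rfl | rfl
    · rwa [hW0]
    · rw [hW1]
      intro h
      exact hU0 (eq_bot_iff.2 fun u hu => by
        have := Submodule.mem_map_of_mem (f := ρ (y : A)) hu
        rw [← hU', h, Submodule.mem_bot] at this
        exact (Submodule.mem_bot _).2 ((ρ.apply_bijective _).1 (this.trans (map_zero _).symm)))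
  · rw [disjoint_iff_inf_le]
    rcases h01 i with rfl | rfl
    · refine le_trans (inf_le_inf_left _ (iSup₂_le fun j hj => ?_ : _ ≤ U')) (hW0 ▸ hinf.le)
      rw [(h01 j).resolve_left hj, hW1]
    · refine le_trans (inf_le_inf_left _ (iSup₂_le fun j hj => ?_ : _ ≤ U)) ?_
      · rw [(h01 j).resolve_right hj, hW0]
      · rw [hW1, inf_comm, hinf]
  · rw [eq_top_iff, ← hsup]
    exact sup_le (hW0 ▸ le_iSup W 0) (hW1 ▸ le_iSup W 1)
  · by_cases hb : (⟨h, hh⟩ : (P : Subgroup A)) ∈ B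
    · refine ⟨0, fun i w hw => ?_⟩
      rw [add_zero]
      rcases h01 i with rfl | rfl
      · rw [hW0] at hw ⊢; exact hBU _ hb w hw
      · rw [hW1] at hw ⊢; exact hin _ hb w hw
    · refine ⟨1, fun i w hw => ?_⟩
      rcases h01 i with rfl | rfl
      · rw [zero_add, hW1]; rw [hW0] at hw; exact (hout _ hb).1 w hw
      · rw [show (1 : ZMod 2) + 1 = 0 from rfl, hW0]; rw [hW1] at hw; exact (hout _ hb).2 w hw

/-- A semilinear element inverting an irreducible cyclic group modulo `4` forces a plane. -/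
theorem card_le_sq {K : Type v} [Field K] [Algebra (ZMod q) K] [Finite K] {w : A} {ω : K}
    {Φ : K ≃ₗ[ZMod q] V} (hinj : Function.Injective ρ) (hΦ : ∀ x : K, ρ w (Φ x) = Φ (ω * x))
    (hirr : IrredOn ρ (Subgroup.zpowers w)) (hqodd : q % 2 = 1) {b : ℕ} (hb2 : 2 ≤ b)
    (hord : orderOf ω = 2 ^ b) {y : A} {k : ℕ} (hy : y * w * y⁻¹ = w ^ k) (hk : k % 4 = 3)
    (hksq : k * k ≡ 1 [MOD 2 ^ b]) :
    Nat.card V ≤ q ^ 2 := by
  classical
  haveI : NeZero q := ⟨hq.out.ne_zero⟩
  haveI := Fintype.ofFinite K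
  have htop : IntermediateField.adjoin (ZMod q) {ω} = ⊤ := adjoin_eq_top hΦ hirr
  have hS : ∀ S : Subalgebra (ZMod q) K, ω ∈ S → ∀ x, x ∈ S := fun S hS x => by
    have h1 : Algebra.adjoin (ZMod q) {ω} ≤ S := Algebra.adjoin_le (Set.singleton_subset_iff.2 hS)
    rw [← IntermediateField.adjoin_simple_toSubalgebra_of_isAlgebraic
      (IsAlgebraic.of_finite (ZMod q) ω), htop] at h1
    exact h1 trivial
  set t0 := Φ.symm (ρ y (Φ 1)) with ht0
  have ht00 : t0 ≠ 0 := fun h => by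
    rw [ht0, LinearEquiv.map_eq_zero_iff] at h
    exact one_ne_zero (Φ.injective (((ρ.apply_bijective y).1 (h.trans (map_zero _).symm)).trans
      (map_zero Φ).symm))
  let L : K →ₗ[ZMod q] K := (LinearMap.mulLeft (ZMod q) t0⁻¹).comp
    ((Φ.symm : V →ₗ[ZMod q] K).comp ((ρ y).comp (Φ : K →ₗ[ZMod q] V)))
  have hLapp : ∀ x, L x = t0⁻¹ * Φ.symm (ρ y (Φ x)) := fun x => rfl
  have hLω : ∀ x, L (ω * x) = ω ^ k * L x := fun x => by
    rw [hLapp, hLapp, ← hΦ, ← Module.End.mul_apply, ← map_mul,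
      show y * w = w ^ k * y by rw [← hy]; group, map_mul, Module.End.mul_apply]
    conv_lhs => rw [← Φ.apply_symm_apply (ρ y (Φ x)), apply_pow hΦ, LinearEquiv.symm_apply_apply]
    ring
  have hL1 : L 1 = 1 := by rw [hLapp, ← ht0, inv_mul_cancel₀ ht00]
  let S : Subalgebra (ZMod q) K :=
    { carrier := {a | ∀ x, L (a * x) = L a * L x}
      mul_mem' := fun {a a'} ha ha' x => by
        rw [mul_assoc, ha, ha', ← mul_assoc, ← ha]
      add_mem' := fun {a a'} ha ha' x => by rw [add_mul, map_add, ha, ha', map_add, add_mul]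
      algebraMap_mem' := fun c x => by
        rw [← Algebra.smul_def, map_smul, Algebra.algebraMap_eq_smul_one, map_smul, hL1,
          smul_mul_assoc, one_mul] }
  have hLmul : ∀ a x, L (a * x) = L a * L x := fun a => hS S (fun x => by
    rw [hLω, show L ω = ω ^ k by rw [← mul_one ω, hLω, hL1, mul_one, mul_one]]) a
  let Lh : K →ₐ[ZMod q] K := AlgHom.ofLinearMap L hL1 hLmul
  obtain ⟨i, hi⟩ := (FiniteField.bijective_frobeniusAlgHom_pow (ZMod q) K).2 Lh
  have hpowapp : ∀ n : ℕ, ∀ x : K, (FiniteField.frobeniusAlgHom (ZMod q) K ^ n) x = x ^ q ^ n := by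
    intro n
    induction n with
    | zero => simp
    | succ n ih =>
      intro x
      rw [pow_succ', AlgHom.mul_apply, ih, FiniteField.frobeniusAlgHom_apply, ZMod.card, ← pow_mul,
        ← pow_succ]
  have hi' : FiniteField.frobeniusAlgHom (ZMod q) K ^ (i : ℕ) = Lh := hi
  have hωfin : IsOfFinOrder ω := orderOf_pos_iff.1 (hord ▸ pow_pos two_pos b)
  have hωk : ω ^ q ^ (i : ℕ) = ω ^ k := by
    rw [← hpowapp, hi']
    show L ω = ω ^ k
    rw [← mul_one ω, hLω, hL1, mul_one, mul_one]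
  have hmod : q ^ (i : ℕ) ≡ k [MOD 2 ^ b] := by rw [← hord]; exact hωfin.pow_eq_pow_iff_modEq.1 hωk
  have h4b : 4 ∣ 2 ^ b := by
    obtain ⟨c, rfl⟩ : ∃ c, b = c + 2 := ⟨b - 2, by omega⟩
    exact ⟨2 ^ c, by ring⟩
  have hiodd : Odd (i : ℕ) := by
    rcases Nat.even_or_odd (i : ℕ) with ⟨j, hj⟩ | h
    · exfalso
      have h1 := hmod.of_dvd h4b
      unfold Nat.ModEq at h1
      rw [hj, ← two_mul, pow_mul, Nat.pow_mod, hk] at h1
      have h2 : q ^ 2 % 4 = 1 := by
        rw [Nat.pow_mod]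
        have : q % 4 = 1 ∨ q % 4 = 3 := by omega
        rcases this with h | h <;> rw [h] <;> norm_num
      rw [h2, one_pow] at h1
      norm_num at h1
    · exact h
  obtain ⟨Kk, hKk⟩ : ∃ n : ℕ, n = k * k := ⟨_, rfl⟩
  have hk2 : ω ^ Kk = ω ^ (q ^ 2) ^ (i : ℕ) := by
    rw [hKk, pow_mul, ← hωk, ← pow_mul, mul_comm, pow_mul, ← hωk, ← pow_mul, ← pow_add,
      ← pow_mul q 2, two_mul]
  -- `k * k` fixes `ω`
  have hfixk : ω ^ Kk = ω := by
    conv_rhs => rw [← pow_one ω]
    rw [hωfin.pow_eq_pow_iff_modEq, hord, hKk]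
    exact hksq
  have hq2 : ω ^ (q ^ 2) = ω := by
    rw [hfixk] at hk2
    have h1 : ((q : ℤ) ^ 2) ^ (i : ℕ) ≡ 1 [ZMOD (2 : ℤ) ^ b] := by
      have := (hωfin.pow_eq_pow_iff_modEq (n := 1) (m := (q ^ 2) ^ (i : ℕ))).1 (by rw [pow_one]; exact hk2)
      rw [hord] at this
      exact_mod_cast (Int.natCast_modEq_iff.2 this).symm
    rw [Int.modEq_comm, Int.modEq_iff_dvd, ← geom_sum_mul] at h1
    have hS' : Odd (∑ j ∈ Finset.range (i : ℕ), ((q : ℤ) ^ 2) ^ j) := by
      have hx : Odd ((q : ℤ) ^ 2) := ((Int.odd_coe_nat q).2 (Nat.odd_iff.2 hqodd)).pow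
      have : ∀ n : ℕ, (Odd (∑ j ∈ Finset.range n, ((q : ℤ) ^ 2) ^ j) ↔ Odd n) := by
        intro n
        induction n with
        | zero => simp
        | succ n ih =>
          rw [Finset.sum_range_succ, Int.odd_add, ih, ← Nat.not_even_iff_odd]
          have : ¬ Even (((q : ℤ) ^ 2) ^ n) := Int.not_even_iff_odd.2 hx.pow
          simp only [this, iff_false, not_not, Nat.odd_add_one, Nat.not_odd_iff_even]
      exact (this _).2 hiodd
    have hco2 : IsCoprime ((2 : ℤ) ^ b) (∑ j ∈ Finset.range (i : ℕ), ((q : ℤ) ^ 2) ^ j) := by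
      refine IsCoprime.pow_left ?_
      obtain ⟨d, hd⟩ := hS'
      exact ⟨-d, 1, by rw [hd]; ring⟩
    have h2 := hco2.dvd_of_dvd_mul_left h1
    have h3 : (1 : ℕ) ≡ q ^ 2 [MOD 2 ^ b] := by
      rw [Nat.modEq_iff_dvd]; exact_mod_cast h2
    have h4 := hωfin.pow_eq_pow_iff_modEq.2 (hord ▸ h3)
    rw [pow_one] at h4
    exact h4.symm
  let F2 := (FiniteField.frobeniusAlgHom (ZMod q) K) ^ 2
  have hfix : ∀ x, x ^ q ^ 2 = x := fun x => by
    rw [← hpowapp]
    exact hS (AlgHom.equalizer F2 (AlgHom.id (ZMod q) K)) (by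
      show F2 ω = ω
      rw [hpowapp]; exact hq2) x
  rw [← Nat.card_congr Φ.toEquiv, Nat.card_eq_fintype_card, ← Finset.card_univ]
  have hne := FiniteField.X_pow_card_sub_X_ne_zero K (p := q ^ 2) (Nat.one_lt_pow two_ne_zero hq.out.one_lt)
  calc (Finset.univ : Finset K).card ≤ (X ^ q ^ 2 - X : K[X]).roots.toFinset.card := by
        refine Finset.card_le_card fun x _ => ?_
        rw [Multiset.mem_toFinset, mem_roots hne]
        simp [hfix x]
    _ ≤ Multiset.card (X ^ q ^ 2 - X : K[X]).roots := Multiset.toFinset_card_le _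
    _ ≤ (X ^ q ^ 2 - X : K[X]).natDegree := card_roots' _
    _ = q ^ 2 := FiniteField.X_pow_card_sub_X_natDegree_eq K (Nat.one_lt_pow two_ne_zero hq.out.one_lt)

theorem isSolvable_two (IH : SolvableBelow.{u, v} 2 q (Nat.card V))
    (hinj : Function.Injective ρ) (hco : (Nat.card A).Coprime q) (hρ : PPowOrbits 2 ρ)
    (P : Sylow 2 A) [Nontrivial V] (hirr : IrredOn ρ (P : Subgroup A)) : Group.IsSolvable A := by
  classical
  by_cases hblocks : ∃ B : Subgroup (P : Subgroup A), B.index = 2 ∧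
      ¬ IrredOn ρ (B.map (P : Subgroup A).subtype)
  · obtain ⟨B, hB, hred⟩ := hblocks
    exact isSolvable_of_index_two IH hinj hco hρ P hirr B hB hred
  push Not at hblocks
  by_cases hcyc : IsCyclic (P : Subgroup A)
  · -- normal complement acting trivially
    have hN : ∀ N : Subgroup A, N.Normal → ¬ 2 ∣ Nat.card N → N = ⊥ := fun N hN hodd => by
      refine (Subgroup.eq_bot_iff_forall _).2 fun x hx => hinj ?_
      rw [map_one]
      ext v
      obtain ⟨k, hk⟩ := hρ v
      have h1 : (vstab ρ v).relIndex N = 1 := by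
        refine Nat.eq_one_of_dvd_coprimes ?_ (hk ▸ Cores.relIndex_dvd_index_right_normal _ N)
          (Subgroup.relIndex_dvd_card _ N)
        exact Nat.Coprime.pow_left _ (Nat.prime_two.coprime_iff_not_dvd.2 hodd)
      exact (Subgroup.relIndex_eq_one.1 h1 hx : _)
    by_cases hA : 2 ∣ Nat.card A
    · have hmin : (Nat.card A).minFac = 2 := (Nat.minFac_eq_two_iff _).2 hA
      have hcomp := IsCyclic.isComplement' hmin hcyc
      set N := (MonoidHom.transferSylow P (hcyc.normalizer_le_centralizer hmin)).ker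
      have hNodd : ¬ 2 ∣ Nat.card N := by
        rw [← hcomp.index_eq_card]
        exact P.not_dvd_index
      have hNb := hN N (MonoidHom.normal_ker _) hNodd
      rw [hNb, Subgroup.isComplement'_bot_left] at hcomp
      haveI := P.2.isNilpotent
      exact Group.isSolvable_of_surjective
        (f := (((MulEquiv.subgroupCongr hcomp).trans Subgroup.topEquiv) : (P : Subgroup A) ≃* A).toMonoidHom)
        (MulEquiv.surjective _)
    · have h := hN ⊤ inferInstance (by rwa [Subgroup.card_top])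
      haveI : Subsingleton A := subsingleton_of_forall_eq 1 fun x =>
        (Subgroup.mem_bot).1 (h ▸ Subgroup.mem_top x)
      exact Group.isSolvable_of_comm fun a b => Subsingleton.elim _ _
  -- all involutions with centralizer of index at most two coincide
  set R := (P : Subgroup A) with hR
  have hneg : ∀ e : R, e ^ 2 = 1 → e ≠ 1 →
      (∀ h k : R, h * e ≠ e * h → k * e ≠ e * k → (h⁻¹ * k) * e = e * (h⁻¹ * k)) →
      ∀ v, ρ (e : A) v = -v := by
    intro e he he1 hC v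
    set C := Subgroup.centralizer ({e} : Set R)
    have hCirr : IrredOn ρ (C.map R.subtype) := by
      by_cases hall : ∀ h : R, h * e = e * h
      · refine hirr.mono fun h hh => ⟨⟨h, hh⟩, ?_, rfl⟩
        exact Subgroup.mem_centralizer_singleton_iff.2 (hall _)
      · push Not at hall
        obtain ⟨h, hh⟩ := hall
        refine hblocks C (Subgroup.index_eq_two_iff'.2 ⟨h⁻¹, fun b => ?_⟩)
        simp only [C, Subgroup.mem_centralizer_singleton_iff]
        by_cases hb : b * e = e * b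
        · refine Or.inr ⟨hb, fun h' => hh ?_⟩
          have h1 : Commute (h⁻¹ * b) e := h'
          have h2 := h1.mul_left (show Commute b e from hb).inv_left
          rw [mul_inv_cancel_right] at h2
          exact (Commute.inv_left_iff.1 h2).eq
        · exact Or.inl ⟨hC h b hh hb, hb⟩
    have hfix := hCirr.fixed_eq_zero hinj (x := (e : A)) (fun h => he1 (Subtype.ext h)) (by
      rintro _ ⟨c, hc, rfl⟩
      exact congrArg Subtype.val (Subgroup.mem_centralizer_singleton_iff.1 hc))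
      (w := v + ρ (e : A) v) (by
        rw [map_add, ← Module.End.mul_apply, ← map_mul, ← pow_two,
          ← Subgroup.coe_pow, he, Subgroup.coe_one, map_one, Module.End.one_apply, add_comm])
    exact eq_neg_of_add_eq_zero_right hfix
  have hneq : ∀ e e' : R, (∀ v, ρ (e : A) v = -v) → (∀ v, ρ (e' : A) v = -v) → e = e' :=
    fun e e' h h' => Subtype.ext (hinj (LinearMap.ext fun v => by rw [h, h']))
  have hzz : ∀ z : R, z ∈ Subgroup.center R → z ^ 2 = 1 → z ≠ 1 → ∀ v, ρ (z : A) v = -v :=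
    fun z hz hz2 hz1 => hneg z hz2 hz1 fun h k hh _ => absurd (Subgroup.mem_center_iff.1 hz h) hh
  -- abelian normal subgroups are cyclic
  have hab : ∀ T : Subgroup R, T.Normal → IsMulCommutative T → IsCyclic T := by
    intro T hT hTc
    haveI := hT
    haveI := hTc
    refine PGroups.UniqueSubgroup.isCyclic_of_abelian (p := 2) (P.2.to_subgroup T) ?_
    by_contra hcon
    push Not at hcon
    obtain ⟨x, x', hx, hx', hx1, hxx⟩ := hcon
    let O : Subgroup R :=
      { carrier := {t | t ∈ T ∧ t ^ 2 = 1}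
        one_mem' := ⟨one_mem _, one_pow 2⟩
        mul_mem' := fun {u v} hu hv => ⟨mul_mem hu.1 hv.1, by
          rw [(show Commute u v from congrArg Subtype.val
            (hTc.is_comm.comm ⟨u, hu.1⟩ ⟨v, hv.1⟩)).mul_pow, hu.2, hv.2, one_mul]⟩
        inv_mem' := fun {u} hu => ⟨inv_mem hu.1, by rw [inv_pow, hu.2, inv_one]⟩ }
    haveI : O.Normal := ⟨fun t ht g => ⟨hT.conj_mem t ht.1 g, by
      rw [conj_pow, ht.2, mul_one, mul_inv_cancel]⟩⟩
    have hxO : (x : R) ∈ O := ⟨x.2, by rw [← Subgroup.coe_pow, hx]; rfl⟩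
    have hx'O : (x' : R) ∈ O := ⟨x'.2, by rw [← Subgroup.coe_pow, hx']; rfl⟩
    haveI : Group.IsNilpotent R := P.2.isNilpotent
    have hOne : O ≠ ⊥ := fun h => hx1 (Subtype.ext ((Subgroup.eq_bot_iff_forall _).1 h _ hxO))
    obtain ⟨z, hz, hz1⟩ := (Subgroup.ne_bot_iff_exists_ne_one.1
      (Solvable.Basics.inf_center_ne_bot hOne))
      |> fun ⟨z, h⟩ => (⟨(z : R), z.2, fun h' => h (Subtype.ext h')⟩ : ∃ z : R, z ∈ O ⊓ Subgroup.center R ∧ z ≠ 1)
    haveI : (Subgroup.zpowers z).Normal := ⟨fun t ht g => by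
      obtain ⟨n, rfl⟩ := Subgroup.mem_zpowers_iff.1 ht
      rw [show g * z ^ n * g⁻¹ = z ^ n by
        rw [((show Commute g z from Subgroup.mem_center_iff.1 hz.2 g).zpow_right n).eq,
          mul_inv_cancel_right]]
      exact Subgroup.zpow_mem_zpowers z n⟩
    have hzle : Subgroup.zpowers z ≤ O := Subgroup.zpowers_le.2 hz.1
    have hlt : Subgroup.zpowers z < O := by
      refine lt_of_le_of_ne hzle fun h => hxx ?_
      have h1 : (x : R) ∈ Subgroup.zpowers z := h ▸ hxO
      have h2 : (x' : R) ∈ Subgroup.zpowers z := h ▸ hx'O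
      have h3 := mem_zpowers_of_prime_card (G := Subgroup.zpowers z) (p := 2)
        (by rw [Nat.card_zpowers, orderOf_eq_prime hz.1.2 hz1]) (g := ⟨_, h1⟩) (g' := ⟨_, h2⟩)
        (fun h => hx1 (Subtype.ext (congrArg (fun t : Subgroup.zpowers z => (t : R)) h)))
      obtain ⟨k, hk⟩ := Subgroup.mem_zpowers_iff.1 h3
      exact Subgroup.mem_zpowers_iff.2 ⟨k, Subtype.ext (by simpa using congrArg Subtype.val hk)⟩
    obtain ⟨e, heO, hez, -, hecomm⟩ := PGroups.AbelianNormal.exists_step P.2 hlt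
    have he1 : e ≠ 1 := fun h => hez (h ▸ one_mem _)
    have hone : ∀ h : R, h * e ≠ e * h → h * e * h⁻¹ = z * e := by
      intro h hh
      obtain ⟨k, hk⟩ := mem_powers_iff_mem_zpowers.2 (hecomm h)
      have hk' : z ^ k = z ^ (k % 2) := by
        rw [← pow_mod_orderOf z k, orderOf_eq_prime hz.1.2 hz1]
      simp only at hk
      rw [hk'] at hk
      rcases Nat.mod_two_eq_zero_or_one k with h2 | h2
      · rw [h2, pow_zero] at hk
        exact absurd (mul_inv_eq_iff_eq_mul.1 (mul_inv_eq_one.1 hk.symm)) hh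
      · rw [h2, pow_one] at hk
        rw [hk]; group
    have he := hneg e heO.2 he1 fun h k hh hk => by
      have h1 := (hone h hh).trans (hone k hk).symm
      calc h⁻¹ * k * e = h⁻¹ * (k * e * k⁻¹) * k := by group
        _ = h⁻¹ * (h * e * h⁻¹) * k := by rw [h1]
        _ = e * (h⁻¹ * k) := by group
    exact hez (hneq e z he (hzz z hz.2 hz.1.2 hz1) ▸ Subgroup.mem_zpowers z)
  -- a maximal abelian normal subgroup
  obtain ⟨M, -, ⟨hMn, hMc⟩, hMmax⟩ := Set.Finite.exists_le_maximal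
    (Set.toFinite {T : Subgroup R | T.Normal ∧ IsMulCommutative T}) (a := ⊥)
    ⟨inferInstance, inferInstance⟩
  haveI := hMn
  haveI := hMc
  have hCM : Subgroup.centralizer (M : Set R) = M := PGroups.AbelianNormal.centralizer_eq_self P.2 M
    fun B hB1 hB2 hle => le_antisymm (hMmax ⟨hB1, hB2⟩ hle) hle
  obtain ⟨w, hMw⟩ := (Subgroup.isCyclic_iff_exists_zpowers_eq_top M).1 (hab M hMn hMc)
  have hwM : w ∈ M := hMw ▸ Subgroup.mem_zpowers w
  obtain ⟨b, hb⟩ := IsPGroup.iff_orderOf.1 P.2 w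
  have hMne : ∃ y : R, y ∉ M := by
    by_contra hcon
    push Not at hcon
    exact hcyc (⟨⟨w, fun x => (show x ∈ Subgroup.zpowers w from hMw.symm ▸ hcon x)⟩⟩)
  have hexp : ∀ y : R, ∃ k : ℕ, y * w * y⁻¹ = w ^ k := fun y => by
    obtain ⟨k, hk⟩ := mem_powers_iff_mem_zpowers.2 (hMw.symm ▸ hMn.conj_mem w hwM y :
      y * w * y⁻¹ ∈ Subgroup.zpowers w)
    exact ⟨k, hk.symm⟩
  choose κ hκ using hexp
  have hmodb : ∀ {i j : ℕ}, w ^ i = w ^ j ↔ i ≡ j [MOD 2 ^ b] := fun {i j} => by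
    rw [pow_eq_pow_iff_modEq, hb]
  have hκmul : ∀ y y' : R, κ (y * y') ≡ κ y * κ y' [MOD 2 ^ b] := fun y y' => by
    rw [← hmodb, ← hκ, pow_mul]
    calc y * y' * w * (y * y')⁻¹ = y * (y' * w * y'⁻¹) * y⁻¹ := by group
      _ = (y * w * y⁻¹) ^ κ y' := by rw [hκ y', conj_pow]
      _ = _ := by rw [hκ y]
  have hκone : ∀ y : R, κ y ≡ 1 [MOD 2 ^ b] → y ∈ M := fun y hy => by
    have h1 : y * w * y⁻¹ = w := by rw [hκ, hmodb.2 hy, pow_one]
    rw [← hCM]
    intro m hm
    obtain ⟨n, rfl⟩ := Subgroup.mem_zpowers_iff.1 (hMw.symm ▸ hm : m ∈ Subgroup.zpowers w)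
    exact ((show Commute w y from (mul_inv_eq_iff_eq_mul.1 h1).symm).zpow_left n).eq
  have hκM : ∀ y ∈ M, κ y ≡ 1 [MOD 2 ^ b] := fun y hy => by
    rw [← hmodb, ← hκ, pow_one, mul_inv_eq_iff_eq_mul]
    exact congrArg Subtype.val (hMc.is_comm.comm ⟨y, hy⟩ ⟨w, hwM⟩)
  have hb1 : 1 ≤ b := by
    obtain ⟨y, hy⟩ := hMne
    by_contra hb0
    exact hy (hκone y (by rw [show b = 0 by omega, pow_zero]; exact Nat.modEq_one))
  have hκodd : ∀ y, κ y % 2 = 1 := fun y => by
    have h1 : orderOf (w ^ κ y) = 2 ^ b := by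
      rw [← hκ, ← hb]
      exact MulEquiv.orderOf_eq (MulAut.conj y) w
    by_contra h
    obtain ⟨t, ht⟩ : 2 ∣ κ y := by omega
    have h2 : (w ^ κ y) ^ 2 ^ (b - 1) = 1 := by
      rw [← pow_mul, ht, mul_comm 2 t, mul_assoc, ← pow_succ', show b - 1 + 1 = b by omega,
        mul_comm, pow_mul, ← hb, pow_orderOf_eq_one, one_pow]
    have h3 := Nat.le_of_dvd (pow_pos two_pos _) (h1 ▸ orderOf_dvd_of_pow_eq_one h2)
    exact absurd h3 (not_le.2 (Nat.pow_lt_pow_right one_lt_two (by omega)))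
  have hb2 : 2 ≤ b := by
    obtain ⟨y, hy⟩ := hMne
    by_contra hb0
    refine hy (hκone y ?_)
    rw [show b = 1 by omega, pow_one]
    exact hκodd y
  have h4b : 4 ∣ 2 ^ b := by
    obtain ⟨c, rfl⟩ : ∃ c, b = c + 2 := ⟨b - 2, by omega⟩
    exact ⟨2 ^ c, by ring⟩
  -- the central involution
  set z := w ^ 2 ^ (b - 1) with hz
  have hz2 : z ^ 2 = 1 := by
    rw [hz, ← pow_mul, ← pow_succ, show b - 1 + 1 = b by omega, ← hb, pow_orderOf_eq_one]
  have hz1 : z ≠ 1 := fun h => by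
    have h3 := Nat.le_of_dvd (pow_pos two_pos _) (hb ▸ orderOf_dvd_of_pow_eq_one h)
    exact absurd h3 (not_le.2 (Nat.pow_lt_pow_right one_lt_two (by omega)))
  have hzc : z ∈ Subgroup.center R := Subgroup.mem_center_iff.2 fun g => by
    refine mul_inv_eq_iff_eq_mul.1 ?_
    rw [hz, ← conj_pow, hκ, ← pow_mul, mul_comm, pow_mul, ← hz]
    obtain ⟨t, ht⟩ : ∃ t, κ g = 2 * t + 1 := ⟨κ g / 2, by have := hκodd g; omega⟩
    rw [ht, pow_succ, pow_mul, hz2, one_pow, one_mul]
  -- elements outside `M` with square in `M`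
  have hthree : ∀ y : R, y ∉ M → y * y ∈ M → κ y % 4 = 3 := by
    intro y hy hyy
    by_contra h3
    obtain ⟨t, ht⟩ : ∃ t, κ y = 4 * t + 1 := ⟨κ y / 4, by have := hκodd y; omega⟩
    have hsq : κ y * κ y ≡ 1 [MOD 2 ^ b] := (hκmul y y).symm.trans (hκM _ hyy)
    have h8 : 2 ^ b ∣ 8 * t := by
      have h1 := (Nat.modEq_iff_dvd' (by rw [ht]; nlinarith)).1 hsq.symm
      rw [ht, show (4 * t + 1) * (4 * t + 1) - 1 = (8 * t) * (2 * t + 1) by
        rw [show (4 * t + 1) * (4 * t + 1) = (8 * t) * (2 * t + 1) + 1 by ring]; simp] at h1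
      exact (Nat.Coprime.pow_left _ (Nat.prime_two.coprime_iff_not_dvd.2 (by omega))).dvd_of_dvd_mul_right h1
    have hk1 : ¬ 2 ^ b ∣ 4 * t := fun h => hy (hκone y (by
      rw [ht]; exact ((Nat.modEq_iff_dvd' (by omega)).2 (by simpa using h)).symm))
    have hb3 : 3 ≤ b := by
      by_contra h
      obtain rfl : b = 2 := by omega
      exact hk1 ⟨t, by norm_num⟩
    obtain ⟨c, rfl⟩ : ∃ c, b = c + 3 := ⟨b - 3, by omega⟩
    obtain ⟨u, rfl⟩ : 2 ^ c ∣ t := by
      rw [pow_add, show (2 : ℕ) ^ 3 = 8 by norm_num, mul_comm] at h8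
      exact Nat.dvd_of_mul_dvd_mul_left (by norm_num) h8
    obtain ⟨u', rfl⟩ : ∃ u', u = 2 * u' + 1 := by
      refine ⟨u / 2, ?_⟩
      by_contra hu
      refine hk1 ⟨u / 2, ?_⟩
      have : u = 2 * (u / 2) := by omega
      conv_lhs => rw [this]
      ring
    -- `y` acts as multiplication by `1 + 2 ^ (c + 2)`
    set k := 1 + 4 * 2 ^ c with hk
    have hkc : κ y ≡ k [MOD 2 ^ (c + 3)] := by
      rw [ht, hk, Nat.modEq_iff_dvd]
      exact ⟨-(u' : ℤ), by push_cast; ring⟩
    have hyw : y * w * y⁻¹ = w ^ k := by rw [hκ]; exact hmodb.2 hkc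
    have hyw' : y⁻¹ * w * y = w ^ k := by
      have h1 : κ y * k ≡ 1 [MOD 2 ^ (c + 3)] := ((hkc.mul_left (κ y)).symm.trans hsq)
      have h2 : (y * w * y⁻¹) ^ k = w := by
        rw [hκ, ← pow_mul, hmodb.2 h1, pow_one]
      rw [conj_pow] at h2
      conv_lhs => rw [← h2]
      group
    obtain ⟨j, hj⟩ := mem_powers_iff_mem_zpowers.2 (hMw.symm ▸ hyy : y * y ∈ Subgroup.zpowers w)
    simp only at hj
    obtain ⟨j', rfl⟩ : 2 ∣ j := by
      have h1 : (y * w * y⁻¹) ^ j = w ^ j := by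
        rw [conj_pow, hj]; group
      rw [hyw, ← pow_mul, hmodb, Nat.modEq_iff_dvd] at h1
      obtain ⟨d, hd⟩ := h1
      refine Int.natCast_dvd_natCast.1 ⟨-d, ?_⟩
      rw [hk] at hd
      push_cast at hd
      have h4 : (2 : ℤ) ^ (c + 2) ≠ 0 := pow_ne_zero _ (by norm_num)
      refine mul_left_cancel₀ h4 ?_
      simp only [pow_add] at hd ⊢
      linear_combination (-1 : ℤ) * hd
    obtain ⟨i, hi⟩ : ∃ i : ℕ, 2 * j' + i * (k + 1) ≡ 0 [MOD 2 ^ (c + 3)] := by
      refine ⟨(2 ^ (c + 2) - 1) * j' * (1 + 2 * 2 ^ c), ?_⟩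
      rw [Nat.modEq_iff_dvd, hk]
      refine ⟨-((j' : ℤ) * (1 + 2 * 2 ^ c) ^ 2) + j' * (1 + 2 ^ c), ?_⟩
      have : (1 : ℕ) ≤ 2 ^ (c + 2) := Nat.one_le_two_pow
      push_cast [this]
      simp only [pow_add]
      ring
    set e := y * w ^ i with he
    have hesq : e ^ 2 = 1 := by
      have : y⁻¹ * w ^ i * y = w ^ (k * i) := by
        rw [pow_mul, ← hyw']
        have h := conj_pow (a := y⁻¹) (b := w) (i := i)
        rw [inv_inv] at h
        exact h.symm
      rw [pow_two, he, show y * w ^ i * (y * w ^ i) = y * y * (y⁻¹ * w ^ i * y) * w ^ i by group,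
        this, ← hj, ← pow_add, ← pow_add, ← pow_zero w, hmodb]
      refine Nat.ModEq.trans ?_ hi
      rw [show 2 * j' + k * i + i = 2 * j' + i * (k + 1) by ring]
    have heM : e ∉ M := fun h => hy (by
      rw [show y = e * (w ^ i)⁻¹ by rw [he]; group]
      exact mul_mem h (inv_mem (pow_mem hwM i)))
    have hconj : ∀ h : R, h * e * h⁻¹ = e ∨ h * e * h⁻¹ = e * z := by
      intro h
      set e' := h * e * h⁻¹ with he'
      have h1 : e⁻¹ * e' ∈ M := hκone _ (by
        refine (hκmul _ _).trans ?_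
        have h2 : κ e' ≡ κ e [MOD 2 ^ (c + 3)] := by
          refine (hκmul _ _).trans (((hκmul h e).mul_right _).trans ?_)
          rw [mul_comm (κ h) (κ e), mul_assoc]
          refine ((((hκmul h h⁻¹).symm.trans ?_)).mul_left (κ e)).trans (by rw [mul_one])
          exact hκM _ (by rw [mul_inv_cancel]; exact one_mem M)
        refine (h2.mul_left _).trans ((hκmul _ _).symm.trans (hκM _ ?_))
        rw [inv_mul_cancel]; exact one_mem M)
      obtain ⟨l, hl⟩ := mem_powers_iff_mem_zpowers.2 (hMw.symm ▸ h1 : e⁻¹ * e' ∈ Subgroup.zpowers w)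
      simp only at hl
      have hel : e' = e * w ^ l := by rw [hl]; group
      have he'2 : e' ^ 2 = 1 := by rw [he', conj_pow, hesq]; group
      have hew : e⁻¹ * w * e = w ^ k := by
        rw [he, show (y * w ^ i)⁻¹ * w * (y * w ^ i) = (w ^ i)⁻¹ * (y⁻¹ * w * y) * w ^ i by group,
          hyw', mul_assoc, ((Commute.refl w).pow_pow k i).eq, inv_mul_cancel_left]
      have h3 : w ^ (k * l + l) = 1 := by
        have : e⁻¹ * w ^ l * e = w ^ (k * l) := by
          rw [pow_mul, ← hew]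
          have h := conj_pow (a := e⁻¹) (b := w) (i := l)
          rw [inv_inv] at h
          exact h.symm
        rw [pow_add, ← this, ← he'2, hel]
        have hgen : ∀ a c' : R, a⁻¹ * c' * a * c' = (a ^ 2)⁻¹ * (a * c') ^ 2 := fun a c' => by
          simp [pow_two, mul_assoc]
        calc e⁻¹ * w ^ l * e * w ^ l = (e ^ 2)⁻¹ * (e * w ^ l) ^ 2 := hgen e (w ^ l)
          _ = (e * w ^ l) ^ 2 := by rw [hesq, inv_one, one_mul]
      obtain ⟨l', rfl⟩ : 2 ^ (c + 2) ∣ l := by
        have h4 := orderOf_dvd_of_pow_eq_one h3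
        rw [hb, show k * l + l = (2 * l) * (1 + 2 * 2 ^ c) by rw [hk]; ring] at h4
        have h5 := (Nat.Coprime.pow_left _ (Nat.prime_two.coprime_iff_not_dvd.2 (by omega))).dvd_of_dvd_mul_right h4
        rw [show c + 3 = c + 2 + 1 from rfl, pow_succ'] at h5
        exact Nat.dvd_of_mul_dvd_mul_left two_pos h5
      rcases Nat.even_or_odd' l' with ⟨m, rfl | rfl⟩
      · left
        rw [hel, show 2 ^ (c + 2) * (2 * m) = 2 ^ (c + 3) * m by ring, pow_mul, ← hb,
          pow_orderOf_eq_one, one_pow, mul_one]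
      · right
        rw [hel, show 2 ^ (c + 2) * (2 * m + 1) = 2 ^ (c + 3) * m + 2 ^ (c + 2) by ring, pow_add,
          pow_mul, ← hb, pow_orderOf_eq_one, one_pow, one_mul, hz]
        rfl
    have he1 : e ≠ 1 := fun h => heM (h ▸ one_mem M)
    have heneg := hneg e hesq he1 fun h k hh hk => by
      have h1 : h * e * h⁻¹ = e * z :=
        (hconj h).resolve_left fun h' => hh (mul_inv_eq_iff_eq_mul.1 h')
      have h2 : k * e * k⁻¹ = e * z :=
        (hconj k).resolve_left fun h' => hk (mul_inv_eq_iff_eq_mul.1 h')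
      calc h⁻¹ * k * e = h⁻¹ * (k * e * k⁻¹) * k := by group
        _ = h⁻¹ * (h * e * h⁻¹) * k := by rw [h1, h2]
        _ = e * (h⁻¹ * k) := by group
    exact heM (hneq e z heneg (hzz z hzc hz2 hz1) ▸ pow_mem hwM _)
  have hthree' : ∀ y : R, y ∉ M → κ y % 4 = 3 := by
    intro y hy
    by_contra h3
    have hex : ∃ i : ℕ, y ^ 2 ^ i ∈ M := by
      obtain ⟨i, hi⟩ := IsPGroup.iff_orderOf.1 P.2 y
      exact ⟨i, by rw [← hi, pow_orderOf_eq_one]; exact one_mem M⟩
    obtain ⟨i, hi⟩ : ∃ i, Nat.find hex = i + 1 := ⟨Nat.find hex - 1, by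
      have : Nat.find hex ≠ 0 := fun h0 => hy (by simpa [h0] using Nat.find_spec hex)
      omega⟩
    have hspec := Nat.find_spec hex
    rw [hi, pow_succ, pow_mul, pow_two] at hspec
    have h5 := hthree _ (Nat.find_min hex (show i < Nat.find hex by omega)) hspec
    have h6 : ∀ n : ℕ, κ (y ^ n) % 4 = 1 := by
      intro n
      induction n with
      | zero =>
        have := (hκM _ (one_mem M)).of_dvd h4b
        rw [pow_zero]; exact this
      | succ n ih =>
        have := (hκmul (y ^ n) y).of_dvd h4b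
        have hy1 : κ y % 4 = 1 := by have := hκodd y; omega
        rw [pow_succ]
        unfold Nat.ModEq at this
        rw [this, Nat.mul_mod, ih, hy1]
    have := h6 (2 ^ i)
    omega
  obtain ⟨y, hy⟩ := hMne
  have hindex : M.index = 2 := Subgroup.index_eq_two_iff'.2 ⟨y, fun x => by
    by_cases hx : x ∈ M
    · exact Or.inr ⟨hx, fun h => hy ((Subgroup.mul_mem_cancel_right M hx).1 h)⟩
    · refine Or.inl ⟨hκone _ ?_, hx⟩
      by_contra hne
      have h7 := hthree' (y * x) fun h => hne (hκM _ h)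
      have h8 := (hκmul y x).of_dvd h4b
      unfold Nat.ModEq at h8
      rw [Nat.mul_mod, hthree' y hy, hthree' x hx] at h8
      omega⟩
  have hMirr : IrredOn ρ (Subgroup.zpowers (w : A)) := by
    have := hblocks M hindex
    rwa [← hMw, MonoidHom.map_zpowers] at this
  have hk3 := hthree' y hy
  have hksq : κ y * κ y ≡ 1 [MOD 2 ^ b] :=
    (hκmul y y).symm.trans (hκM _ ((Subgroup.mul_mem_iff_of_index_two hindex).2 Iff.rfl))
  have hqodd : q % 2 = 1 := by
    rcases hq.out.eq_two_or_odd with h | h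
    · exfalso
      have h2 : 2 ∣ Nat.card A := (dvd_pow_self 2 (by omega : b ≠ 0)).trans (hb ▸ (Subgroup.orderOf_coe w).symm ▸ orderOf_dvd_natCard (w : A))
      subst h
      exact absurd (Nat.eq_one_of_dvd_coprimes hco h2 dvd_rfl) (by norm_num)
    · exact h
  obtain ⟨K, _, _, _, ω, Φ, hΦ⟩ := exists_field hMirr
  have hωord : orderOf ω = 2 ^ b := by
    rw [← hb, ← Subgroup.orderOf_coe]
    exact orderOf_eq_orderOf_iff.2 (pow_eq_one_iff' hinj hΦ)
  exact isSolvable_of_plane hinj hco hρ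
    (card_le_sq hinj hΦ hMirr hqodd hb2 hωord (y := (y : A)) (k := κ y)
      (by rw [← Subgroup.coe_inv, ← Subgroup.coe_mul, ← Subgroup.coe_mul, hκ, Subgroup.coe_pow]) hk3 hksq)

end Cfsg.Agent.BaerGroup
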