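import Cfsg.Agent.Lib.BaerGroup.Split
import Cfsg.Agent.Lib.BaerGroup.Cyclic
import Cfsg.Agent.Lib.BaerGroup.Two
import Cfsg.Agent.Lib.PLocal.CyclicExtension

/-!
Coprime linear groups all of whose orbits have `p`-power size are soluble.
-/

set_option autoImplicit false
set_option linter.unusedSectionVars false
set_option linter.style.haveILetI false

namespace Cfsg.Agent.BaerGroup

universe u v

theorem solvableBelow {q p : ℕ} [hq : Fact q.Prime] [hp : Fact p.Prime] (n : ℕ) :
    SolvableBelow.{u, v} p q n := by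
  induction n with
  | zero => intro A _ _ W _ _ _ σ _ _ _ h; exact absurd h (Nat.not_lt_zero _)
  | succ n ih =>
  suffices h : ∀ (m : ℕ) (A : Type u) [Group A] [Finite A] (W : Type v) [AddCommGroup W]
      [Module (ZMod q) W] [Finite W] (σ : Representation (ZMod q) A W), Function.Injective σ →
      (Nat.card A).Coprime q → PPowOrbits p σ → Nat.card W < n + 1 → Nat.card A = m →
      Group.IsSolvable A by
    intro A _ _ W _ _ _ σ hinj hco hσ hW
    exact h _ A W σ hinj hco hσ hW rfl
  intro m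
  induction m using Nat.strong_induction_on with
  | _ m ihA =>
  intro A _ _ W _ _ _ ρ hinj hco hρ hW hm
  classical
  have IH : SolvableBelow.{u, v} p q (Nat.card W) := fun A' _ _ W' _ _ _ σ h1 h2 h3 h4 =>
    ih A' W' σ h1 h2 h3 (lt_of_lt_of_le h4 (Nat.lt_succ_iff.1 hW))
  obtain ⟨P⟩ := (inferInstance : Nonempty (Sylow p A))
  have htriv : (∀ g : A, ∀ w, ρ g w = w) → Group.IsSolvable A := fun h => by
    haveI : Subsingleton A := subsingleton_of_forall_eq 1 fun g =>
      hinj (by rw [map_one]; exact LinearMap.ext (h g))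
    exact Group.isSolvable_of_comm fun a b => Subsingleton.elim _ _
  rcases subsingleton_or_nontrivial W with hs | hs
  · exact htriv fun g w => Subsingleton.elim _ _
  by_cases hirr : IrredOn ρ (P : Subgroup A)
  swap
  · simp only [IrredOn, not_forall, not_or] at hirr
    obtain ⟨U, hU, h0, h1⟩ := hirr
    exact isSolvable_of_invariant IH hinj hco hρ hp.out U
      (fun g w hw => mem_of_sylow_stable hρ P (U : Set W) hU g hw) h0 h1
  by_cases hp2 : p = 2
  · subst hp2
    exact isSolvable_two IH hinj hco hρ P hirr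
  by_cases hcyc : IsCyclic (P : Subgroup A)
  · obtain ⟨w, hw⟩ := (Subgroup.isCyclic_iff_exists_zpowers_eq_top _).1 hcyc
    obtain ⟨j, hj⟩ := P.2.exists_card_eq
    rw [← hw, Nat.card_zpowers] at hj
    rcases Nat.eq_zero_or_pos j with rfl | hj0
    · refine htriv fun g v => ?_
      obtain ⟨h, hh, he⟩ := exists_sylow_apply hρ P g v
      rw [← hw, show w = 1 from orderOf_eq_one_iff.1 (by simpa using hj), Subgroup.zpowers_one_eq_bot,
        Subgroup.mem_bot] at hh
      rw [he, hh, map_one]; rfl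
    obtain ⟨a, rfl⟩ : ∃ a, j = a + 1 := ⟨j - 1, by omega⟩
    rcases isSolvable_or_pow_irred IH hinj hco hρ hp2 P hirr hw.symm hj with h | h
    · exact h
    refine isSolvable_of_pow_irred hinj hco hρ hp2 ?_ P hw.symm hj h
    intro N hN hNtop
    haveI := hN
    refine ihA (Nat.card N) ?_ N W (ρ.comp N.subtype) (hinj.comp N.subtype_injective)
      (Nat.Coprime.coprime_dvd_left (Subgroup.card_subgroup_dvd_card _) hco) ?_ hW rfl
    · rw [← hm]
      exact lt_of_le_of_ne (Nat.card_le_card_of_injective _ N.subtype_injective) fun h =>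
        hNtop (Subgroup.card_eq_iff_eq_top N |>.1 h)
    · intro v
      obtain ⟨k, hk⟩ := hρ v
      have heq : vstab (ρ.comp N.subtype) v = (vstab ρ v).subgroupOf N := rfl
      obtain ⟨i, -, hi⟩ := (Nat.dvd_prime_pow hp.out).1 (hk ▸
        (show (vstab (ρ.comp N.subtype) v).index ∣ (vstab ρ v).index by
          rw [heq]; exact Cores.relIndex_dvd_index_right_normal _ _))
      exact ⟨i, hi⟩
  -- a normal elementary abelian subgroup of order `p ^ 2`
  have hnc : ¬ IsCyclic (⊤ : Subgroup (P : Subgroup A)) := fun h =>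
    hcyc (isCyclic_of_surjective (Subgroup.topEquiv (G := (P : Subgroup A))).toMonoidHom
      (Subgroup.topEquiv (G := (P : Subgroup A))).surjective)
  obtain ⟨E, -, hEn, hEe, hEc⟩ :=
    PLocal.CyclicExtension.exists_normal_elementaryAbelian_sq hp2 P.2 ⊤ hnc
  haveI := hEn
  haveI : Group.IsNilpotent (P : Subgroup A) := P.2.isNilpotent
  have hEne : E ≠ ⊥ := fun h => by
    rw [h, Subgroup.card_bot] at hEc
    exact absurd hEc (Nat.one_lt_pow two_ne_zero hp.out.one_lt).ne
  obtain ⟨⟨z, hz⟩, hz1⟩ := Subgroup.ne_bot_iff_exists_ne_one.1 (Solvable.Basics.inf_center_ne_bot hEne)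
  have hz1' : z ≠ 1 := fun h => hz1 (Subtype.ext h)
  haveI : (Subgroup.zpowers z).Normal := ⟨fun t ht g => by
    obtain ⟨k, rfl⟩ := Subgroup.mem_zpowers_iff.1 ht
    rw [show g * z ^ k * g⁻¹ = z ^ k by
      rw [((show Commute g z from Subgroup.mem_center_iff.1 hz.2 g).zpow_right k).eq,
        mul_inv_cancel_right]]
    exact Subgroup.zpow_mem_zpowers z k⟩
  have hzord : orderOf z = p := orderOf_eq_prime (hEe.2 z hz.1) hz1'
  have hlt : Subgroup.zpowers z < E := by
    refine lt_of_le_of_ne (Subgroup.zpowers_le.2 hz.1) fun h => ?_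
    rw [← h, Nat.card_zpowers, hzord] at hEc
    have := hp.out.two_le; nlinarith
  obtain ⟨e, heE, hez, -, hecomm⟩ := PGroups.AbelianNormal.exists_step P.2 hlt
  refine isSolvable_of_split IH hinj hco hρ P hirr (z := (z : A)) (e := (e : A)) z.2 e.2 ?_ ?_ ?_ ?_ ?_ ?_
  · rw [← Subgroup.coe_pow, hEe.2 z hz.1, Subgroup.coe_one]
  · exact fun h => hz1' (Subtype.ext h)
  · exact fun h hh => congrArg Subtype.val (Subgroup.mem_center_iff.1 hz.2 ⟨h, hh⟩)
  · rw [← Subgroup.coe_pow, hEe.2 e heE, Subgroup.coe_one]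
  · intro h
    obtain ⟨k, hk⟩ := Subgroup.mem_zpowers_iff.1 h
    exact hez (Subgroup.mem_zpowers_iff.2 ⟨k, Subtype.ext (by simpa using hk)⟩)
  · intro h hh
    obtain ⟨k, hk⟩ := mem_powers_iff_mem_zpowers.2 (hecomm ⟨h, hh⟩)
    refine ⟨k, ?_⟩
    have h1 : (z : A) ^ k = h * (e : A) * h⁻¹ * (e : A)⁻¹ := by
      simpa using congrArg Subtype.val hk
    have h2 : Commute (e : A) (z : A) :=
      congrArg Subtype.val (Subgroup.mem_center_iff.1 hz.2 e)
    rw [(h2.pow_right k).eq, h1, inv_mul_cancel_right]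

/-- Coprime faithful linear groups with all orbits of `p`-power size are soluble. -/
theorem isSolvable_of_ppowOrbits {q p : ℕ} [Fact q.Prime] [Fact p.Prime] {A : Type u} [Group A]
    [Finite A] {V : Type v} [AddCommGroup V] [Module (ZMod q) V] [Finite V]
    (ρ : Representation (ZMod q) A V) (hinj : Function.Injective ρ)
    (hco : (Nat.card A).Coprime q) (hρ : PPowOrbits p ρ) : Group.IsSolvable A :=
  solvableBelow (Nat.card V + 1) A V ρ hinj hco hρ (Nat.lt_succ_self _)

end Cfsg.Agent.BaerGroup
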