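import Cfsg.Agent.Lib.BaerGroup.Cores
import Cfsg.Agent.Lib.BaerGroup.Linear

/-!
Groups in which every element of `q`-power order has a class of prime power size.
-/

set_option autoImplicit false
set_option linter.unusedSectionVars false
set_option linter.style.haveILetI false

namespace Cfsg.Agent.BaerGroup

open scoped commutatorElement

universe u

variable {G : Type u} [Group G] [Finite G]

/-- Baer's hypothesis. -/
def BaerHyp (q : ℕ) (G : Type u) [Group G] : Prop :=
  ∀ x : G, (∃ k : ℕ, orderOf x = q ^ k) → ∃ (r : ℕ) (a : ℕ), r.Prime ∧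
    (Subgroup.centralizer ({x} : Set G)).index = r ^ a

variable {q : ℕ} [hqp : Fact q.Prime]

theorem qelt_of_mem (Q : Sylow q G) {x : G} (hx : x ∈ (Q : Subgroup G)) :
    ∃ k, orderOf x = q ^ k := by
  obtain ⟨k, hk⟩ := IsPGroup.iff_orderOf.1 Q.2 ⟨x, hx⟩
  exact ⟨k, by rwa [Subgroup.orderOf_mk] at hk⟩

theorem exists_conj_mem (Q : Sylow q G) {x : G} (hx : ∃ k, orderOf x = q ^ k) :
    ∃ g : G, g * x * g⁻¹ ∈ (Q : Subgroup G) := by
  obtain ⟨k, hk⟩ := hx
  obtain ⟨Q', hQ'⟩ := IsPGroup.exists_le_sylow (G := G) (P := Subgroup.zpowers x)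
    (IsPGroup.of_card (n := k) (by rw [Nat.card_zpowers, hk]))
  obtain ⟨g, rfl⟩ := MulAction.exists_smul_eq G Q' Q
  exact ⟨g, ⟨x, hQ' (Subgroup.mem_zpowers x), rfl⟩⟩

theorem index_centralizer_conj (g x : G) :
    (Subgroup.centralizer ({g * x * g⁻¹} : Set G)).index =
      (Subgroup.centralizer ({x} : Set G)).index := by
  rw [← Subgroup.index_map_equiv (Subgroup.centralizer ({x} : Set G)) (MulAut.conj g)]
  congr 1
  ext c
  simp only [Subgroup.mem_centralizer_singleton_iff, Subgroup.mem_map, MulAut.conj_apply]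
  constructor
  · intro h
    refine ⟨g⁻¹ * c * g, ?_, by simp [mul_assoc]⟩
    calc g⁻¹ * c * g * x = g⁻¹ * (c * (g * x * g⁻¹)) * g := by group
      _ = g⁻¹ * (g * x * g⁻¹ * c) * g := by rw [h]
      _ = x * (g⁻¹ * c * g) := by group
  · rintro ⟨d, hd, rfl⟩
    show MulAut.conj g d * _ = _
    simp only [MulAut.conj_apply]
    calc g * d * g⁻¹ * (g * x * g⁻¹) = g * (d * x) * g⁻¹ := by group
      _ = g * (x * d) * g⁻¹ := by rw [hd]
      _ = g * x * g⁻¹ * (g * d * g⁻¹) := by group

theorem mem_upQ_pPrime (hG : BaerHyp q G) {x : G} (hx : ∃ k, orderOf x = q ^ k) :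
    x ∈ upQ q (Cfsg.pPrimeCore q G) := by
  obtain ⟨r, a, hr, hc⟩ := hG x hx
  haveI := Fact.mk hr
  by_cases hrq : r = q
  · subst hrq
    exact pCore_le_upQ _ _ (upQ_self_le _ (mem_upQ hr hx hc))
  · refine upQ_mono (Cores.le_pPrimeCore ?_) (mem_upQ hr hx hc)
    obtain ⟨i, hi⟩ := (Cores.pCore_isPGroup (G := G) r).exists_card_eq
    rw [hi]
    exact Nat.Coprime.pow_left _ ((Nat.coprime_primes hr hqp.out).2 hrq)

/-- The image of a Sylow subgroup is `O_q` of `G / O_{q'}(G)`. -/
theorem map_sylow_eq (hG : BaerHyp q G) (Q : Sylow q G) :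
    (Q : Subgroup G).map (QuotientGroup.mk' (Cfsg.pPrimeCore q G)) =
      Cfsg.pCore q (G ⧸ Cfsg.pPrimeCore q G) := by
  set π := QuotientGroup.mk' (Cfsg.pPrimeCore q G)
  have hle : (Q : Subgroup G).map π ≤ Cfsg.pCore q (G ⧸ Cfsg.pPrimeCore q G) := by
    rintro _ ⟨x, hx, rfl⟩
    exact mem_upQ_pPrime hG (qelt_of_mem Q hx)
  refine le_antisymm hle (Subgroup.relIndex_eq_one.1 (Nat.eq_one_of_dvd_coprimes ?_
    ((Subgroup.relIndex_dvd_index_of_le hle).trans
      ((Q : Subgroup G).index_map_dvd (QuotientGroup.mk'_surjective _)))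
    (Subgroup.relIndex_dvd_card _ _)))
  obtain ⟨i, hi⟩ := (Cores.pCore_isPGroup (G := G ⧸ Cfsg.pPrimeCore q G) q).exists_card_eq
  rw [hi]
  exact ((hqp.out.coprime_iff_not_dvd.2 Q.not_dvd_index).symm).pow_right _

theorem qlength_one (hG : BaerHyp q G) (Q : Sylow q G) :
    ∃ K L : Subgroup G, K.Normal ∧ L.Normal ∧ K ≤ L ∧ (Nat.card K).Coprime q ∧
      (∃ m : ℕ, K.relIndex L = q ^ m) ∧ L.index.Coprime q := by
  refine ⟨Cfsg.pPrimeCore q G, upQ q (Cfsg.pPrimeCore q G), inferInstance, inferInstance,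
    le_upQ _ _, Cores.pPrimeCore_card_coprime q, ?_, ?_⟩
  · obtain ⟨i, hi⟩ := card_upQ q (Cfsg.pPrimeCore q G)
    refine ⟨i, Nat.eq_of_mul_eq_mul_left (Nat.card_pos (α := Cfsg.pPrimeCore q G)) ?_⟩
    rw [← hi, ← Subgroup.relIndex_bot_left, Subgroup.relIndex_mul_relIndex ⊥ _ _ bot_le (le_upQ _ _),
      Subgroup.relIndex_bot_left]
  · exact Nat.Coprime.coprime_dvd_left
      (Subgroup.index_dvd_of_le fun x hx => mem_upQ_pPrime hG (qelt_of_mem Q hx))
      ((hqp.out.coprime_iff_not_dvd.2 Q.not_dvd_index).symm)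

theorem eq_one_of_mem_inf (Q : Sylow q G) {x : G} (hx : x ∈ (Q : Subgroup G))
    (hK : x ∈ Cfsg.pPrimeCore q G) : x = 1 := by
  obtain ⟨k, hk⟩ := qelt_of_mem Q hx
  refine orderOf_eq_one_iff.1 (Nat.eq_one_of_dvd_coprimes (Cores.pPrimeCore_card_coprime q)
    (Subgroup.orderOf_mk x hK ▸ orderOf_dvd_natCard (⟨x, hK⟩ : Cfsg.pPrimeCore q G)) ?_ |>.trans rfl)
  rcases Nat.eq_zero_or_pos k with rfl | hk0
  · rw [hk, pow_zero]; exact one_dvd _
  · exfalso
    have h1 : q ∣ Nat.card (Cfsg.pPrimeCore q G) :=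
      ((dvd_pow_self q hk0.ne').trans hk.symm.dvd).trans
        (Subgroup.orderOf_mk x hK ▸ orderOf_dvd_natCard (⟨x, hK⟩ : Cfsg.pPrimeCore q G))
    exact Cores.pPrimeCore_not_dvd q h1

/-- A normal central-in-itself situation: a normal Sylow subgroup whose centralizer has
`q`-power index splits off. -/
theorem normal_complement (Q : Sylow q G) [(Q : Subgroup G).Normal]
    (hC : ∃ i, (Subgroup.centralizer ((Q : Subgroup G) : Set G)).index = q ^ i) :
    (∃ N : Subgroup G, N.Normal ∧ N.IsComplement' (Q : Subgroup G)) ∧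
      ∀ x ∈ (Q : Subgroup G), ∃ a, (Subgroup.centralizer ({x} : Set G)).index = q ^ a := by
  obtain ⟨i, hi⟩ := hC
  set C := Subgroup.centralizer ((Q : Subgroup G) : Set G)
  obtain ⟨j, hj⟩ := Q.2.exists_card_eq
  obtain ⟨N, hN⟩ := Subgroup.exists_right_complement'_of_coprime (N := (Q : Subgroup G))
    (by rw [hj]; exact Nat.Coprime.pow_left _ (hqp.out.coprime_iff_not_dvd.2 Q.not_dvd_index))
  have hNcard : Nat.card N = (Q : Subgroup G).index := hN.symm.index_eq_card.symm
  haveI : C.Normal := inferInstance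
  have hNC : N ≤ C := by
    refine Subgroup.relIndex_eq_one.1 (Nat.eq_one_of_dvd_coprimes ?_
      (hi ▸ Subgroup.relIndex_dvd_index_of_normal C N) (Subgroup.relIndex_dvd_card _ _))
    rw [hNcard]
    exact Nat.Coprime.pow_left _ (hqp.out.coprime_iff_not_dvd.2 Q.not_dvd_index)
  have hfix : ∀ u ∈ (Q : Subgroup G), ∀ n ∈ N, u * n = n * u := fun u hu n hn => hNC hn u hu
  refine ⟨⟨N, ⟨fun n hn g => ?_⟩, hN.symm⟩, fun x hx => ?_⟩
  · obtain ⟨⟨u, m⟩, rfl⟩ := hN.2 g
    have h1 : (m : G) * n * (m : G)⁻¹ ∈ N := mul_mem (mul_mem m.2 hn) (inv_mem m.2)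
    have h2 := hfix u u.2 _ h1
    show (u : G) * m * n * ((u : G) * m)⁻¹ ∈ N
    rw [show (u : G) * m * n * ((u : G) * m)⁻¹ = (u : G) * ((m : G) * n * (m : G)⁻¹) * (u : G)⁻¹ by group,
      h2, mul_inv_cancel_right]
    exact h1
  · have h1 : N ≤ Subgroup.centralizer ({x} : Set G) := fun n hn =>
      Subgroup.mem_centralizer_singleton_iff.2 (hfix x hx n hn).symm
    obtain ⟨a, -, ha⟩ := (Nat.dvd_prime_pow hqp.out).1
      ((Subgroup.index_dvd_of_le h1).trans (by rw [hN.index_eq_card, hj]))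
    exact ⟨a, ha⟩

/-- The nonabelian case. -/
theorem nonabelian_case (hG : BaerHyp q G) (Q : Sylow q G)
    (hQ : ¬ IsMulCommutative (Q : Subgroup G)) :
    (Q : Subgroup G).Normal ∧
      ∃ i, (Subgroup.centralizer ((Q : Subgroup G) : Set G)).index = q ^ i := by
  classical
  set R := (Q : Subgroup G)
  -- outside the centre the class size is a power of `q`
  have hidx : ∀ x : R, x ∉ Subgroup.center R →
      ∃ a, (Subgroup.centralizer ({(x : G)} : Set G)).index = q ^ a := by
    intro x hx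
    obtain ⟨r, a, hr, hc⟩ := hG x (qelt_of_mem Q x.2)
    by_cases hrq : r = q
    · exact ⟨a, hrq ▸ hc⟩
    exfalso
    refine hx (Subgroup.mem_center_iff.2 fun u => ?_)
    set C := Subgroup.centralizer ({(x : G)} : Set G)
    obtain ⟨S₀⟩ := (inferInstance : Nonempty (Sylow q C))
    have hSp : IsPGroup q ((S₀ : Subgroup C).map C.subtype) := S₀.2.map _
    have hSi : ¬ q ∣ ((S₀ : Subgroup C).map C.subtype).index := by
      intro h
      rw [Subgroup.index_map_subtype, hc] at h
      rcases (Nat.Prime.dvd_mul hqp.out).1 h with h | h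
      · exact S₀.not_dvd_index h
      · exact hrq ((Nat.prime_dvd_prime_iff_eq hqp.out hr).1 (hqp.out.dvd_of_dvd_pow h)).symm
    set π := QuotientGroup.mk' (Cfsg.pPrimeCore q G)
    have hu : π (u : G) ∈ ((hSp.toSylow hSi : Sylow q G) : Subgroup G).map π := by
      rw [map_sylow_eq hG, ← map_sylow_eq hG Q]
      exact ⟨u, u.2, rfl⟩
    obtain ⟨_, ⟨s, -, rfl⟩, hsu⟩ := hu
    have hcomm : Commute (π (u : G)) (π (x : G)) := hsu ▸
      (show Commute (s : G) (x : G) from Subgroup.mem_centralizer_singleton_iff.1 s.2).map π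
    have h1 : ⁅(u : G), (x : G)⁆ ∈ Cfsg.pPrimeCore q G := by
      rw [← QuotientGroup.eq_one_iff]
      show π ⁅(u : G), (x : G)⁆ = 1
      rw [map_commutatorElement, commutatorElement_eq_one_iff_mul_comm]
      exact hcomm.eq
    have h2 : ⁅(u : G), (x : G)⁆ ∈ R := by
      rw [commutatorElement_def]
      exact mul_mem (mul_mem (mul_mem u.2 x.2) (inv_mem u.2)) (inv_mem x.2)
    exact Subtype.ext (commutatorElement_eq_one_iff_mul_comm.1 (eq_one_of_mem_inf Q h2 h1))
  obtain ⟨e, he⟩ : ∃ e : R, e ∉ Subgroup.center R := by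
    by_contra hcon
    push Not at hcon
    exact hQ ⟨⟨fun a b => Subgroup.mem_center_iff.1 (hcon b) a⟩⟩
  -- such elements generate
  have hgen : ∀ H : Subgroup R, (∀ x, x ∉ Subgroup.center R → x ∈ H) → H = ⊤ := fun H hH => by
    rw [eq_top_iff]
    intro z _
    by_cases hz : z ∈ Subgroup.center R
    · have h1 : z * e ∉ Subgroup.center R := fun h => he ((Subgroup.mul_mem_cancel_left _ hz).1 h)
      simpa using mul_mem (hH _ h1) (inv_mem (hH e he))
    · exact hH z hz
  have hRn : R = Cfsg.pCore q G := by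
    refine le_antisymm ?_ (Cores.pCore_le_sylow Q)
    intro x hx
    have := hgen ((Cfsg.pCore q G).subgroupOf R) (fun y hy => by
      obtain ⟨a, ha⟩ := hidx y hy
      exact upQ_self_le _ (mem_upQ hqp.out (qelt_of_mem Q y.2) ha))
    have h : (⟨x, hx⟩ : R) ∈ (Cfsg.pCore q G).subgroupOf R := this ▸ Subgroup.mem_top _
    exact h
  have hRnorm : R.Normal := hRn ▸ Cores.pCore_normal q
  refine ⟨hRnorm, ?_⟩
  haveI := hRnorm
  set CQ := Subgroup.centralizer (R : Set G)
  refine ⟨CQ.index.primeFactorsList.length, Nat.eq_prime_pow_of_unique_prime_dvd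
    Subgroup.index_ne_zero_of_finite fun {t} ht htd => ?_⟩
  by_contra htq
  haveI := Fact.mk ht
  obtain ⟨T⟩ := (inferInstance : Nonempty (Sylow t G))
  refine T.not_dvd_index (htd.trans (Subgroup.index_dvd_of_le fun h hh => ?_))
  -- `h` fixes a conjugate of each noncentral element
  have hconj : ∀ x : R, x ∉ Subgroup.center R →
      ∃ u : R, Commute h ((u * x * u⁻¹ : R) : G) := by
    intro x hx
    obtain ⟨a, ha⟩ := hidx x hx
    set C := Subgroup.centralizer ({(x : G)} : Set G)
    obtain ⟨S₀⟩ := (inferInstance : Nonempty (Sylow t C))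
    have hSp : IsPGroup t ((S₀ : Subgroup C).map C.subtype) := S₀.2.map _
    have hSi : ¬ t ∣ ((S₀ : Subgroup C).map C.subtype).index := by
      intro h
      rw [Subgroup.index_map_subtype, ha] at h
      rcases (Nat.Prime.dvd_mul ht).1 h with h | h
      · exact S₀.not_dvd_index h
      · exact htq ((Nat.prime_dvd_prime_iff_eq ht hqp.out).1 (ht.dvd_of_dvd_pow h))
    obtain ⟨g, hg⟩ := MulAction.exists_smul_eq G (hSp.toSylow hSi) T
    have hh' : h ∈ ((g • hSp.toSylow hSi : Sylow t G) : Subgroup G) := hg.symm ▸ hh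
    obtain ⟨s, hs, rfl⟩ := hh'
    obtain ⟨s, -, rfl⟩ := (hs : s ∈ (S₀ : Subgroup C).map C.subtype)
    have hsup : R ⊔ C = ⊤ := by
      rw [← Subgroup.index_eq_one]
      refine Nat.eq_one_of_dvd_coprimes ?_ (ha ▸ Subgroup.index_dvd_of_le le_sup_right :
        (R ⊔ C).index ∣ q ^ a) (Subgroup.index_dvd_of_le (le_sup_left : R ≤ R ⊔ C))
      exact Nat.Coprime.pow_left _ (hqp.out.coprime_iff_not_dvd.2 Q.not_dvd_index)
    obtain ⟨u, hu, c, hc, rfl⟩ := Subgroup.mem_sup_of_normal_left.1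
      (show g ∈ R ⊔ C from hsup ▸ Subgroup.mem_top g)
    refine ⟨⟨u, hu⟩, ?_⟩
    have hcx : c * (x : G) * c⁻¹ = (x : G) :=
      mul_inv_eq_iff_eq_mul.2 (Subgroup.mem_centralizer_singleton_iff.1 hc)
    have h3 := (show Commute (s : G) (x : G) from
      Subgroup.mem_centralizer_singleton_iff.1 s.2).map (MulAut.conj (u * c)).toMonoidHom
    show Commute ((MulAut.conj (u * c)).toMonoidHom (s : G)) (u * (x : G) * u⁻¹)
    have h4 : (MulAut.conj (u * c)).toMonoidHom (x : G) = u * (x : G) * u⁻¹ := by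
      simp only [MulEquiv.coe_toMonoidHom, MulAut.conj_apply]
      conv_rhs => rw [← hcx]
      group
    exact h4 ▸ h3
  let H : Subgroup R := (Subgroup.centralizer ({h} : Set G)).subgroupOf R
  have hH : ∀ u : R, u ∈ H ↔ Commute (u : G) h := fun u => by
    simp [H, Subgroup.mem_subgroupOf, Subgroup.mem_centralizer_singleton_iff, commute_iff_eq]
  haveI : Group.IsNilpotent R := Q.2.isNilpotent
  have hsup : H ⊔ Subgroup.center R = ⊤ := by
    by_contra hne
    obtain ⟨M, hM, hle⟩ := (eq_top_or_exists_le_coatom (H ⊔ Subgroup.center R)).resolve_left hne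
    haveI := Subgroup.NormalizerCondition.normal_of_coatom M Group.normalizerCondition_of_isNilpotent hM
    refine hM.1 (hgen M fun x hx => ?_)
    obtain ⟨u, hu⟩ := hconj x hx
    have h1 : u * x * u⁻¹ ∈ M := hle (Subgroup.mem_sup_left ((hH _).2 hu.symm))
    have := (inferInstance : M.Normal).conj_mem _ h1 u⁻¹
    simpa [mul_assoc] using this
  have hHn : H.Normal := ⟨fun y hy g => by
    obtain ⟨a, ha, z, hz, rfl⟩ := Subgroup.mem_sup_of_normal_right.1
      (show g ∈ H ⊔ Subgroup.center R from hsup ▸ Subgroup.mem_top g)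
    rw [show a * z * y * (a * z)⁻¹ = a * (z * y * z⁻¹) * a⁻¹ by group,
      show z * y * z⁻¹ = y from mul_inv_eq_iff_eq_mul.2 (Subgroup.mem_center_iff.1 hz y).symm]
    exact mul_mem (mul_mem ha hy) (inv_mem ha)⟩
  have hHtop : H = ⊤ := hgen H fun x hx => by
    obtain ⟨u, hu⟩ := hconj x hx
    have := hHn.conj_mem _ ((hH _).2 hu.symm) u⁻¹
    simpa [mul_assoc] using this
  intro y hy
  exact ((hH ⟨y, hy⟩).1 (hHtop ▸ Subgroup.mem_top _)).eq

open scoped IsMulCommutative in
/-- In the abelian case two different primes cannot occur: the asymmetric half. -/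
theorem false_of_mixed (hG : BaerHyp q G) (Q : Sylow q G) [IsMulCommutative (Q : Subgroup G)]
    {r s a b c : ℕ} (hr : r.Prime) (hs : s.Prime) (hrs : r ≠ s) (hrq : r ≠ q) (hsq : s ≠ q)
    {x y : G} (hx : x ∈ (Q : Subgroup G)) (hy : y ∈ (Q : Subgroup G))
    (hxi : (Subgroup.centralizer ({x} : Set G)).index = r ^ a)
    (hyi : (Subgroup.centralizer ({y} : Set G)).index = s ^ b) (hb : b ≠ 0)
    (hxyi : (Subgroup.centralizer ({x * y} : Set G)).index = r ^ c) : False := by
  classical
  haveI := Fact.mk hr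
  haveI := Fact.mk hs
  set K := Cfsg.pPrimeCore q G
  set π := QuotientGroup.mk' K with hπ
  set W := Cfsg.pCore q (G ⧸ K) with hW
  have hWmap : (Q : Subgroup G).map π = W := map_sylow_eq hG Q
  haveI : IsMulCommutative W := by
    rw [← hWmap]
    infer_instance
  let φ : G ⧸ K →* MulAut W := MulAut.conjNormal
  have hfix : ∀ (t : G) (ht : π t ∈ W),
      fixer φ (⟨π t, ht⟩ : W) = Subgroup.centralizer ({π t} : Set (G ⧸ K)) := fun t ht => by
    ext g
    simp [mem_fixer, φ, Subtype.ext_iff, MulAut.conjNormal_apply, Subgroup.mem_centralizer_singleton_iff,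
      mul_inv_eq_iff_eq_mul]
  have hidx : ∀ (l i : ℕ), l.Prime → ∀ t : G, (Subgroup.centralizer ({t} : Set G)).index = l ^ i →
      ∃ j, (Subgroup.centralizer ({π t} : Set (G ⧸ K))).index = l ^ j := by
    intro l i hl t ht
    have h1 : (Subgroup.centralizer ({π t} : Set (G ⧸ K))).index ∣ l ^ i := by
      refine dvd_trans (Subgroup.index_dvd_of_le ?_)
        (ht ▸ Subgroup.index_map_dvd (H := Subgroup.centralizer ({t} : Set G))
          (QuotientGroup.mk'_surjective K))
      rintro _ ⟨c, hc, rfl⟩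
      rw [Subgroup.mem_centralizer_singleton_iff]
      exact (show Commute c t from Subgroup.mem_centralizer_singleton_iff.1 hc).map π
    obtain ⟨j, -, hj⟩ := (Nat.dvd_prime_pow hl).1 h1
    exact ⟨j, hj⟩
  have hxW : π x ∈ W := hWmap ▸ ⟨x, hx, rfl⟩
  have hyW : π y ∈ W := hWmap ▸ ⟨y, hy, rfl⟩
  obtain ⟨a', ha'⟩ := hidx r a hr x hxi
  obtain ⟨b', hb'⟩ := hidx s b hs y hyi
  obtain ⟨c', hc'⟩ := hidx r c hr (x * y) hxyi
  have hfixy := fixed_of_orbits φ hqp.out hrs hrq hsq (Cores.pCore_isPGroup q)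
    (x := (⟨π x, hxW⟩ : W)) (y := ⟨π y, hyW⟩) (a := a') (b := b') (c := c')
    (by rw [hfix]; exact ha') (by rw [hfix]; exact hb')
    (by
      rw [show (⟨π x, hxW⟩ : W) * ⟨π y, hyW⟩ = ⟨π (x * y), by rw [map_mul]; exact mul_mem hxW hyW⟩
        from Subtype.ext (map_mul π x y).symm, hfix]
      exact hc')
  -- `y` lies in `O_q(G)`
  have hxy : x * y ∈ (Q : Subgroup G) := mul_mem hx hy
  have hy' : y ∈ Cfsg.pCore q G := by
    refine upQ_inf_le hr hs hrs ⟨?_, mem_upQ hs (qelt_of_mem Q hy) hyi⟩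
    have h1 := mem_upQ (q := q) hr (qelt_of_mem Q hx) hxi
    have h2 := mem_upQ (q := q) hr (qelt_of_mem Q hxy) hxyi
    have h3 := mul_mem (inv_mem h1) h2
    rwa [inv_mul_cancel_left] at h3
  have htop : Subgroup.centralizer ({y} : Set G) = ⊤ := by
    rw [eq_top_iff]
    intro g _
    rw [Subgroup.mem_centralizer_singleton_iff, ← commutatorElement_eq_one_iff_mul_comm]
    have hK : ⁅g, y⁆ ∈ K := by
      rw [← QuotientGroup.eq_one_iff]
      show π ⁅g, y⁆ = 1
      rw [map_commutatorElement, commutatorElement_eq_one_iff_mul_comm]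
      have := congrArg Subtype.val (hfixy (π g))
      simp only [φ, MulAut.conjNormal_apply] at this
      exact mul_inv_eq_iff_eq_mul.1 this
    have hO : ⁅g, y⁆ ∈ Cfsg.pCore q G := by
      rw [commutatorElement_def]
      exact mul_mem ((Cores.pCore_normal q).conj_mem y hy' g) (inv_mem hy')
    exact eq_one_of_mem_inf Q (Cores.pCore_le_sylow Q hO) hK
  rw [htop, Subgroup.index_top] at hyi
  exact hb (((Nat.pow_eq_one).1 hyi.symm).resolve_left hs.ne_one)

theorem coprime_index_of_mem (Q : Sylow q G) [IsMulCommutative (Q : Subgroup G)] {x : G}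
    (hx : x ∈ (Q : Subgroup G)) {r a : ℕ} (ha : a ≠ 0)
    (hxi : (Subgroup.centralizer ({x} : Set G)).index = r ^ a) : r ≠ q := by
  intro h
  refine Q.not_dvd_index ((dvd_pow_self q ha).trans ((h ▸ hxi.symm.dvd : q ^ a ∣ _).trans
    (Subgroup.index_dvd_of_le fun u hu => Subgroup.mem_centralizer_singleton_iff.2 ?_)))
  exact congrArg Subtype.val
    ((inferInstance : IsMulCommutative (Q : Subgroup G)).is_comm.comm ⟨u, hu⟩ ⟨x, hx⟩)

/-- One prime serves for all elements of an abelian Sylow subgroup. -/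
theorem prime_unique (hG : BaerHyp q G) (Q : Sylow q G) [hQc : IsMulCommutative (Q : Subgroup G)]
    {r s a b : ℕ} (hr : r.Prime) (hs : s.Prime) {x y : G}
    (hx : x ∈ (Q : Subgroup G)) (hy : y ∈ (Q : Subgroup G)) (ha : a ≠ 0) (hb : b ≠ 0)
    (hxi : (Subgroup.centralizer ({x} : Set G)).index = r ^ a)
    (hyi : (Subgroup.centralizer ({y} : Set G)).index = s ^ b) : r = s := by
  by_contra hrs
  have hrq := coprime_index_of_mem Q hx ha hxi
  have hsq := coprime_index_of_mem Q hy hb hyi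
  obtain ⟨t, c, ht, htc⟩ := hG (x * y) (qelt_of_mem Q (mul_mem hx hy))
  set B := Subgroup.centralizer ({x} : Set G)
  set D := Subgroup.centralizer ({y} : Set G)
  have hco : (r ^ a).Coprime (s ^ b) := Nat.Coprime.pow _ _ ((Nat.coprime_primes hr hs).2 hrs)
  have hBD : (B ⊓ D).index = r ^ a * s ^ b := by
    refine le_antisymm (hxi ▸ hyi ▸ Subgroup.index_inf_le) (Nat.le_of_dvd
      (Nat.pos_of_ne_zero Subgroup.index_ne_zero_of_finite) (hco.mul_dvd_of_dvd_of_dvd
        (hxi ▸ Subgroup.index_dvd_of_le inf_le_left) (hyi ▸ Subgroup.index_dvd_of_le inf_le_right)))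
  have hdvd : t ^ c ∣ r ^ a * s ^ b := by
    rw [← htc, ← hBD]
    refine Subgroup.index_dvd_of_le fun g hg => Subgroup.mem_centralizer_singleton_iff.2 ?_
    exact ((show Commute g x from Subgroup.mem_centralizer_singleton_iff.1 hg.1).mul_right
      (show Commute g y from Subgroup.mem_centralizer_singleton_iff.1 hg.2)).eq
  have hxy : x * y = y * x := congrArg Subtype.val (hQc.is_comm.comm ⟨x, hx⟩ ⟨y, hy⟩)
  rcases Nat.eq_zero_or_pos c with rfl | hc
  · rw [pow_zero, Subgroup.index_eq_one] at htc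
    have hBD' : B = D := by
      ext g
      have hg : Commute g (x * y) := Subgroup.mem_centralizer_singleton_iff.1 (htc ▸ Subgroup.mem_top g)
      simp only [B, D, Subgroup.mem_centralizer_singleton_iff]
      constructor
      · intro h
        have := (show Commute g x from h).inv_right.mul_right hg
        rw [inv_mul_cancel_left] at this
        exact this.eq
      · intro h
        have := hg.mul_right (show Commute g y from h).inv_right
        rw [mul_inv_cancel_right] at this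
        exact this.eq
    have he : r ^ a = s ^ b := by rw [← hxi, ← hyi, hBD']
    exact hrs ((Nat.prime_dvd_prime_iff_eq hr hs).1 (hr.dvd_of_dvd_pow ((dvd_pow_self r ha).trans he.dvd)))
  rcases (Nat.Prime.dvd_mul ht).1 ((dvd_pow_self t hc.ne').trans hdvd) with h | h
  · obtain rfl := (Nat.prime_dvd_prime_iff_eq ht hr).1 (ht.dvd_of_dvd_pow h)
    exact false_of_mixed hG Q hr hs hrs hrq hsq hx hy hxi hyi hb htc
  · obtain rfl := (Nat.prime_dvd_prime_iff_eq ht hs).1 (ht.dvd_of_dvd_pow h)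
    exact false_of_mixed hG Q hs hr (Ne.symm hrs) hsq hrq hy hx hyi hxi ha (hxy ▸ htc)

/-- `O_p(G) Q` is normal. -/
theorem sup_normal {p : ℕ} (hp : p.Prime) (hpq : p ≠ q) (Q : Sylow q G)
    (hp' : ∀ x : G, (∃ k : ℕ, orderOf x = q ^ k) →
      ∃ a : ℕ, (Subgroup.centralizer ({x} : Set G)).index = p ^ a) :
    (Cfsg.pCore p G ⊔ (Q : Subgroup G)).Normal := by
  have hle : Cfsg.pCore p G ⊔ (Q : Subgroup G) ≤ upQ q (Cfsg.pCore p G) :=
    sup_le (le_upQ _ _) fun x hx => by
      obtain ⟨a, ha⟩ := hp' x (qelt_of_mem Q hx)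
      exact mem_upQ hp (qelt_of_mem Q hx) ha
  have heq : Cfsg.pCore p G ⊔ (Q : Subgroup G) = upQ q (Cfsg.pCore p G) := by
    refine le_antisymm hle (Subgroup.relIndex_eq_one.1 ?_)
    obtain ⟨i, hi⟩ := card_upQ q (Cfsg.pCore p G)
    have h1 : (Cfsg.pCore p G).relIndex (upQ q (Cfsg.pCore p G)) = q ^ i := by
      refine Nat.eq_of_mul_eq_mul_left (Nat.card_pos (α := Cfsg.pCore p G)) ?_
      rw [← hi, ← Subgroup.relIndex_bot_left, Subgroup.relIndex_mul_relIndex ⊥ _ _ bot_le (le_upQ _ _),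
        Subgroup.relIndex_bot_left]
    exact Nat.eq_one_of_dvd_coprimes
      (Nat.Coprime.pow_left i (hqp.out.coprime_iff_not_dvd.2 Q.not_dvd_index))
      (h1 ▸ Subgroup.relIndex_dvd_of_le_left _ le_sup_left)
      ((Subgroup.relIndex_dvd_index_of_le hle).trans
        (Subgroup.index_dvd_of_le (le_sup_right : (Q : Subgroup G) ≤ _)))
  rw [heq]
  infer_instance

/-- The group induced on a normal elementary abelian `q`-subgroup is soluble, if it has order prime
to `q` and all its classes in the subgroup have `p`-power size. -/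
theorem isSolvable_quotient_centralizer {H : Type u} [Group H] [Finite H] {p : ℕ} [Fact p.Prime]
    (O : Subgroup H) [O.Normal] (hc : ∀ u ∈ O, ∀ v ∈ O, u * v = v * u) (hq : ∀ u ∈ O, u ^ q = 1)
    (horb : ∀ t ∈ O, ∃ k, (Subgroup.centralizer ({t} : Set H)).index = p ^ k)
    (hco : (Subgroup.centralizer (O : Set H)).index.Coprime q) :
    Group.IsSolvable (H ⧸ Subgroup.centralizer (O : Set H)) := by
  letI : CommGroup O :=
    { (inferInstance : Group O) with mul_comm := fun u v => Subtype.ext (hc u u.2 v v.2) }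
  letI : Module (ZMod q) (Additive O) :=
    AddCommGroup.zmodModule (n := q) fun t => (Subtype.ext (hq _ (Additive.toMul t).2) :
      (Additive.toMul t) ^ q = 1)
  let ρ : Representation (ZMod q) H (Additive O) :=
    { toFun := fun g => (MonoidHom.toAdditive
        (MulAut.conjNormal g : MulAut O).toMonoidHom).toZModLinearMap q
      map_one' := LinearMap.ext fun t => by
        show Additive.ofMul ((MulAut.conjNormal (1 : H) : MulAut O) (Additive.toMul t)) = t
        rw [map_one]; rfl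
      map_mul' := fun g h => LinearMap.ext fun t => by
        show Additive.ofMul ((MulAut.conjNormal (g * h) : MulAut O) (Additive.toMul t)) =
          Additive.ofMul ((MulAut.conjNormal g : MulAut O)
            ((MulAut.conjNormal h : MulAut O) (Additive.toMul t)))
        rw [map_mul]; rfl }
  have hρ : ∀ g t, ρ g t = Additive.ofMul ((MulAut.conjNormal g : MulAut O) (Additive.toMul t)) :=
    fun _ _ => rfl
  have hfix : ∀ g t, ρ g t = t ↔
      g ∈ Subgroup.centralizer ({((Additive.toMul t : O) : H)} : Set H) := by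
    intro g t
    rw [hρ, Subgroup.mem_centralizer_singleton_iff, ← mul_inv_eq_iff_eq_mul,
      ← MulAut.conjNormal_apply]
    exact ⟨fun h => congrArg (fun a => ((Additive.toMul a : O) : H)) h,
      fun h => congrArg Additive.ofMul (Subtype.ext h)⟩
  have hker : ρ.asGroupHom.ker = Subgroup.centralizer (O : Set H) := by
    ext g
    rw [MonoidHom.mem_ker]
    constructor
    · intro h t ht
      have h1 : ρ g (Additive.ofMul ⟨t, ht⟩) = Additive.ofMul ⟨t, ht⟩ := by
        have := LinearMap.congr_fun (congrArg Units.val h) (Additive.ofMul ⟨t, ht⟩)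
        simpa [Representation.asGroupHom_apply] using this
      exact (Subgroup.mem_centralizer_singleton_iff.1 ((hfix _ _).1 h1)).symm
    · intro h
      refine Units.ext (LinearMap.ext fun t => ?_)
      rw [Representation.asGroupHom_apply]
      exact (hfix g t).2 (Subgroup.mem_centralizer_singleton_iff.2
        (h _ (Additive.toMul t).2).symm)
  haveI : Finite (Additive O) := inferInstanceAs (Finite O)
  let τ : Representation (ZMod q) (H ⧸ ρ.asGroupHom.ker) (Additive O) :=
    (Units.coeHom _).comp (QuotientGroup.kerLift ρ.asGroupHom)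
  have hsol : Group.IsSolvable (H ⧸ ρ.asGroupHom.ker) := by
    refine isSolvable_of_ppowOrbits (p := p) τ ?_ ?_ ?_
    · intro u v h
      exact QuotientGroup.kerLift_injective _ (Units.ext h)
    · rw [← Subgroup.index, hker]
      exact hco
    · intro t
      obtain ⟨k, hk⟩ := horb _ (Additive.toMul t).2
      refine ⟨k, ?_⟩
      rw [← Subgroup.index_comap_of_surjective _ (QuotientGroup.mk'_surjective _), ← hk]
      congr 1
      ext g
      exact hfix g t
  haveI := hsol
  exact Group.isSolvable_of_surjective (f := (QuotientGroup.quotientMulEquivOfEq hker).toMonoidHom)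
    (QuotientGroup.quotientMulEquivOfEq hker).surjective

/-- `G / O_{q'}(G)` is soluble. -/
theorem isSolvable_quotient (hG : BaerHyp q G) (Q : Sylow q G)
    [IsMulCommutative (Q : Subgroup G)] {p : ℕ} [Fact p.Prime]
    (hp' : ∀ x : G, (∃ k : ℕ, orderOf x = q ^ k) →
      ∃ a : ℕ, (Subgroup.centralizer ({x} : Set G)).index = p ^ a) :
    Group.IsSolvable (G ⧸ Cfsg.pPrimeCore q G) := by
  classical
  set K := Cfsg.pPrimeCore q G
  set π := QuotientGroup.mk' K with hπ
  set W := Cfsg.pCore q (G ⧸ K) with hW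
  have hWmap : (Q : Subgroup G).map π = W := map_sylow_eq hG Q
  haveI : IsMulCommutative W := by
    rw [← hWmap]
    infer_instance
  have hWcomm : ∀ u ∈ W, ∀ w ∈ W, u * w = w * u := fun u hu w hw =>
    congrArg Subtype.val ((inferInstance : IsMulCommutative W).is_comm.comm ⟨u, hu⟩ ⟨w, hw⟩)
  let O : Subgroup (G ⧸ K) :=
    { carrier := {t | t ∈ W ∧ t ^ q = 1}
      one_mem' := ⟨one_mem _, one_pow q⟩
      mul_mem' := fun {u v} hu hv => ⟨mul_mem hu.1 hv.1, by
        rw [(show Commute u v from hWcomm u hu.1 v hv.1).mul_pow, hu.2, hv.2, one_mul]⟩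
      inv_mem' := fun {u} hu => ⟨inv_mem hu.1, by rw [inv_pow, hu.2, inv_one]⟩ }
  haveI : O.Normal := ⟨fun t ht g => ⟨(Cores.pCore_normal q).conj_mem t ht.1 g, by
    rw [conj_pow, ht.2, mul_one, mul_inv_cancel]⟩⟩
  set T := Subgroup.centralizer (O : Set (G ⧸ K)) with hT
  have hmemT : ∀ g, g ∈ T ↔ ∀ t : O, g * (t : G ⧸ K) * g⁻¹ = t := by
    intro g
    constructor
    · intro h t
      exact mul_inv_eq_iff_eq_mul.2 (h t t.2).symm
    · intro h t ht
      exact (mul_inv_eq_iff_eq_mul.1 (h ⟨t, ht⟩)).symm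
  have hWT : W ≤ T := fun g hg => (hmemT g).2 fun t =>
    mul_inv_eq_iff_eq_mul.2 (hWcomm g hg t t.2.1)
  have hWidx : ¬ q ∣ W.index := fun h => Q.not_dvd_index
    (h.trans (hWmap ▸ (Q : Subgroup G).index_map_dvd (QuotientGroup.mk'_surjective K)))
  -- the image is soluble
  have hquot : Group.IsSolvable ((G ⧸ K) ⧸ T) := by
    refine isSolvable_quotient_centralizer (p := p) O (fun u hu v hv => hWcomm u hu.1 v hv.1)
      (fun u hu => hu.2) (fun t ht => ?_) (Nat.Coprime.coprime_dvd_left (Subgroup.index_dvd_of_le hWT)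
        ((hqp.out.coprime_iff_not_dvd.2 hWidx).symm))
    obtain ⟨x, hx, rfl⟩ := (hWmap.symm ▸ ht.1 : t ∈ (Q : Subgroup G).map π)
    obtain ⟨a, ha⟩ := hp' x (qelt_of_mem Q hx)
    have hle : (Subgroup.centralizer ({x} : Set G)).map π ≤ Subgroup.centralizer ({π x} : Set (G ⧸ K)) := by
      rintro _ ⟨c, hc, rfl⟩
      rw [Subgroup.mem_centralizer_singleton_iff]
      exact (show Commute c x from Subgroup.mem_centralizer_singleton_iff.1 hc).map π
    obtain ⟨j, -, hj⟩ := (Nat.dvd_prime_pow Fact.out).1 ((Subgroup.index_dvd_of_le hle).trans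
      (ha ▸ Subgroup.index_map_dvd (H := Subgroup.centralizer ({x} : Set G))
        (QuotientGroup.mk'_surjective K)))
    exact ⟨j, hj⟩
  -- the kernel is `W`
  have hfixall : ∀ g ∈ T, (orderOf g).Coprime q → ∀ v ∈ W, g * v * g⁻¹ = v := by
    intro g hg hgq
    have key : ∀ k : ℕ, ∀ v ∈ W, v ^ q ^ k = 1 → g * v * g⁻¹ = v := by
      intro k
      induction k with
      | zero => intro v _ hv; rw [pow_zero, pow_one] at hv; subst hv; group
      | succ k ih =>
        intro v hvW hv
        have h1 : g * v ^ q * g⁻¹ = v ^ q := ih _ (pow_mem hvW q) (by rw [← pow_mul, ← pow_succ']; exact hv)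
        set d := g * v * g⁻¹ * v⁻¹ with hd
        have hgv : g * v * g⁻¹ ∈ W := (Cores.pCore_normal q).conj_mem v hvW g
        have hdW : d ∈ W := mul_mem hgv (inv_mem hvW)
        have hdq : d ^ q = 1 := by
          rw [hd, ((show Commute (g * v * g⁻¹) v from hWcomm _ hgv v hvW).inv_right).mul_pow,
            conj_pow, h1, inv_pow, mul_inv_cancel]
        have hgd : g * d * g⁻¹ = d := (hmemT g).1 hg ⟨d, hdW, hdq⟩
        have hgj : ∀ j : ℕ, g ^ j * v * (g ^ j)⁻¹ = d ^ j * v := by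
          intro j
          induction j with
          | zero => simp
          | succ j ihj =>
            calc g ^ (j + 1) * v * (g ^ (j + 1))⁻¹ = g * (g ^ j * v * (g ^ j)⁻¹) * g⁻¹ := by
                  rw [pow_succ']; group
              _ = g * (d ^ j * v) * g⁻¹ := by rw [ihj]
              _ = (g * d * g⁻¹) ^ j * (g * v * g⁻¹) := by rw [conj_pow]; group
              _ = d ^ j * (d * v) := by rw [hgd, hd]; group
              _ = d ^ (j + 1) * v := by rw [← mul_assoc, ← pow_succ]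
        have h2 := hgj (orderOf g)
        rw [pow_orderOf_eq_one, inv_one, one_mul, mul_one] at h2
        have h3 : d ^ orderOf g = 1 := by
          simpa using h2.symm
        have h4 : d = 1 := orderOf_eq_one_iff.1 (Nat.eq_one_of_dvd_coprimes hgq
          (orderOf_dvd_of_pow_eq_one h3) (orderOf_dvd_of_pow_eq_one hdq))
        exact mul_inv_eq_one.1 h4
    intro v hv
    obtain ⟨k, hk⟩ := IsPGroup.iff_orderOf.1 (Cores.pCore_isPGroup q) (⟨v, hv⟩ : W)
    rw [Subgroup.orderOf_mk] at hk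
    exact key k v hv (by rw [← hk, pow_orderOf_eq_one])
  have hTW : Group.IsSolvable T := by
    set W' := W.subgroupOf T
    obtain ⟨j, hj⟩ := (Cores.pCore_isPGroup (G := G ⧸ K) q).exists_card_eq
    have hW'card : Nat.card W' = q ^ j := by
      rw [← hj]
      exact Nat.card_congr (Subgroup.subgroupOfEquivOfLe hWT).toEquiv
    have hW'idx : ¬ q ∣ W'.index := fun h => hWidx (h.trans (Subgroup.relIndex_dvd_index_of_le hWT))
    haveI : W'.Normal := (Cores.pCore_normal q).subgroupOf T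
    obtain ⟨X, hX⟩ := Subgroup.exists_right_complement'_of_coprime (N := W')
      (by rw [hW'card]; exact Nat.Coprime.pow_left _ (hqp.out.coprime_iff_not_dvd.2 hW'idx))
    have hXcard : (Nat.card X).Coprime q := by
      rw [← hX.symm.index_eq_card]
      exact (hqp.out.coprime_iff_not_dvd.2 hW'idx).symm
    have hcomm : ∀ u ∈ W', ∀ n ∈ X, u * n = n * u := fun u hu n hn => by
      have h1 := hfixall (n : G ⧸ K) n.2 (by
        rw [Subgroup.orderOf_coe, ← Subgroup.orderOf_mk n hn]
        exact Nat.Coprime.coprime_dvd_left (orderOf_dvd_natCard _) hXcard) (u : G ⧸ K) hu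
      exact Subtype.ext (mul_inv_eq_iff_eq_mul.1 h1).symm
    haveI hXn : X.Normal := ⟨fun n hn g => by
      obtain ⟨⟨u, m⟩, rfl⟩ := hX.2 g
      have h1 : (m : T) * n * (m : T)⁻¹ ∈ X := mul_mem (mul_mem m.2 hn) (inv_mem m.2)
      show (u : T) * m * n * ((u : T) * m)⁻¹ ∈ X
      rw [show (u : T) * m * n * ((u : T) * m)⁻¹ = (u : T) * ((m : T) * n * (m : T)⁻¹) * (u : T)⁻¹
        by group, hcomm u u.2 _ h1, mul_inv_cancel_right]
      exact h1⟩
    haveI : T.Normal := inferInstance
    have hXbot : X = ⊥ := by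
      have h1 := (Subgroup.map_mono (f := T.subtype) (Cores.le_pPrimeCore hXcard)).trans
        (Cores.map_pPrimeCore_subtype_le q T)
      rw [Cores.pPrimeCore_quotient_self, le_bot_iff,
        Subgroup.map_eq_bot_iff_of_injective _ T.subtype_injective] at h1
      exact h1
    rw [hXbot, Subgroup.isComplement'_bot_right] at hX
    refine Group.isSolvable_of_comm fun u v => Subtype.ext ?_
    exact hWcomm _ (show u ∈ W' from hX ▸ Subgroup.mem_top u) _
      (show v ∈ W' from hX ▸ Subgroup.mem_top v)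
  haveI := hTW
  exact (Group.isSolvable_iff_subgroup_quotient T).2 ⟨hTW, hquot⟩

/-- Baer's theorem. -/
theorem main (hG : BaerHyp q G) (Q : Sylow q G) :
    ∃ p : ℕ, p.Prime ∧ (∀ x : G, (∃ k : ℕ, orderOf x = q ^ k) →
        ∃ a : ℕ, (Subgroup.centralizer ({x} : Set G)).index = p ^ a) ∧
      (p = q → (Q : Subgroup G).Normal ∧
        ∃ N : Subgroup G, N.Normal ∧ N.IsComplement' (Q : Subgroup G)) ∧
      (p ≠ q → IsMulCommutative (Q : Subgroup G) ∧ (Cfsg.pCore p G ⊔ (Q : Subgroup G)).Normal ∧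
        ∀ _h : (Cfsg.pPrimeCore q G).Normal, Group.IsSolvable (G ⧸ Cfsg.pPrimeCore q G)) := by
  classical
  have hall : ∀ p : ℕ, (∀ x ∈ (Q : Subgroup G),
      ∃ a : ℕ, (Subgroup.centralizer ({x} : Set G)).index = p ^ a) →
      ∀ x : G, (∃ k : ℕ, orderOf x = q ^ k) →
        ∃ a : ℕ, (Subgroup.centralizer ({x} : Set G)).index = p ^ a := by
    intro p hp x hx
    obtain ⟨g, hg⟩ := exists_conj_mem Q hx
    obtain ⟨a, ha⟩ := hp _ hg
    exact ⟨a, (index_centralizer_conj g x) ▸ ha⟩
  have hsame : ∀ (hn : (Q : Subgroup G).Normal),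
      (∃ i, (Subgroup.centralizer ((Q : Subgroup G) : Set G)).index = q ^ i) →
      ∃ p : ℕ, p.Prime ∧ (∀ x : G, (∃ k : ℕ, orderOf x = q ^ k) →
        ∃ a : ℕ, (Subgroup.centralizer ({x} : Set G)).index = p ^ a) ∧
      (p = q → (Q : Subgroup G).Normal ∧
        ∃ N : Subgroup G, N.Normal ∧ N.IsComplement' (Q : Subgroup G)) ∧
      (p ≠ q → IsMulCommutative (Q : Subgroup G) ∧ (Cfsg.pCore p G ⊔ (Q : Subgroup G)).Normal ∧
        ∀ _h : (Cfsg.pPrimeCore q G).Normal, Group.IsSolvable (G ⧸ Cfsg.pPrimeCore q G)) := by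
    intro hn hC
    haveI := hn
    obtain ⟨hN, hx⟩ := normal_complement Q hC
    exact ⟨q, hqp.out, hall q hx, fun _ => ⟨hn, hN⟩, fun h => absurd rfl h⟩
  by_cases hQ : IsMulCommutative (Q : Subgroup G)
  swap
  · obtain ⟨h1, h2⟩ := nonabelian_case hG Q hQ
    exact hsame h1 h2
  haveI := hQ
  by_cases hcen : ∀ x ∈ (Q : Subgroup G), (Subgroup.centralizer ({x} : Set G)).index = 1
  · have hc : ∀ x ∈ (Q : Subgroup G), ∀ g : G, g * x = x * g := fun x hx g =>
      Subgroup.mem_centralizer_singleton_iff.1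
        ((Subgroup.index_eq_one.1 (hcen x hx)) ▸ Subgroup.mem_top g)
    refine hsame ⟨fun x hx g => by rw [hc x hx g, mul_inv_cancel_right]; exact hx⟩ ⟨0, ?_⟩
    rw [pow_zero, Subgroup.index_eq_one, eq_top_iff]
    intro g _ x hx
    exact (hc x hx g).symm
  push Not at hcen
  obtain ⟨x, hx, hx1⟩ := hcen
  obtain ⟨p, a, hp, hxi⟩ := hG x (qelt_of_mem Q hx)
  have ha : a ≠ 0 := fun h => hx1 (by rw [hxi, h, pow_zero])
  have hpq := coprime_index_of_mem Q hx ha hxi
  have hp' : ∀ y ∈ (Q : Subgroup G),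
      ∃ a : ℕ, (Subgroup.centralizer ({y} : Set G)).index = p ^ a := by
    intro y hy
    obtain ⟨s, b, hs, hyi⟩ := hG y (qelt_of_mem Q hy)
    rcases Nat.eq_zero_or_pos b with rfl | hb
    · exact ⟨0, by rw [hyi, pow_zero, pow_zero]⟩
    · exact ⟨b, (prime_unique hG Q hp hs hx hy ha hb.ne' hxi hyi) ▸ hyi⟩
  haveI := Fact.mk hp
  exact ⟨p, hp, hall p hp', fun h => absurd h hpq,
    fun _ => ⟨hQ, sup_normal hp hpq Q (hall p hp'), fun _h => isSolvable_quotient hG Q (hall p hp')⟩⟩

end Cfsg.Agent.BaerGroup
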