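import Mathlib.Algebra.Field.GeomSum
import Cfsg.Agent.Lib.BaerGroup.Blocks

/-!
A noncentral element of order `p` moved only inside its coset of a central element of order `p`
gives `p` blocks.
-/

set_option autoImplicit false
set_option linter.unusedSectionVars false
set_option linter.style.haveILetI false

namespace Cfsg.Agent.BaerGroup

universe u v

variable {q : ℕ} [hq : Fact q.Prime] {p : ℕ} [hp : Fact p.Prime] {A : Type u} [Group A] [Finite A]
  {V : Type v} [AddCommGroup V] [Module (ZMod q) V] [Finite V] {ρ : Representation (ZMod q) A V}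

/-- The sum over the powers of an element. -/
def powSum (ρ : Representation (ZMod q) A V) (p : ℕ) (x : A) : V →ₗ[ZMod q] V :=
  ∑ j ∈ Finset.range p, ρ (x ^ j)

theorem powSum_fixed {x : A} (hx : x ^ p = 1) (w : V) : ρ x (powSum ρ p x w) = powSum ρ p x w := by
  have h : (ρ x - 1) * powSum ρ p x = 0 := by
    simp only [powSum, map_pow]
    rw [mul_geom_sum, ← map_pow, hx, map_one, sub_self]
  have h1 := LinearMap.congr_fun h w
  simp only [Module.End.mul_apply, LinearMap.sub_apply, Module.End.one_apply,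
    LinearMap.zero_apply] at h1
  exact sub_eq_zero.1 h1

theorem powSum_apply {x : A} (w : V) : powSum ρ p x w = ∑ j ∈ Finset.range p, ρ (x ^ j) w := by
  simp [powSum]

/-- The extraspecial type situation gives solubility. -/
theorem isSolvable_of_split (IH : SolvableBelow.{u, v} p q (Nat.card V))
    (hinj : Function.Injective ρ) (hco : (Nat.card A).Coprime q) (hρ : PPowOrbits p ρ)
    (P : Sylow p A) (hirr : IrredOn ρ (P : Subgroup A)) [Nontrivial V] {z e : A}
    (hzP : z ∈ (P : Subgroup A)) (heP : e ∈ (P : Subgroup A)) (hz : z ^ p = 1) (hz1 : z ≠ 1)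
    (hzc : ∀ h ∈ (P : Subgroup A), h * z = z * h) (he : e ^ p = 1)
    (hez : e ∉ Subgroup.zpowers z)
    (hmove : ∀ h ∈ (P : Subgroup A), ∃ c : ℕ, h * e * h⁻¹ = e * z ^ c) :
    Group.IsSolvable A := by
  classical
  have hpr : p.Prime := hp.out
  have hqp : (p : ZMod q) ≠ 0 := by
    intro h
    have h1 : q ∣ p := (ZMod.natCast_eq_zero_iff p q).1 h
    have h2 : p ∣ Nat.card A := by
      rw [← orderOf_eq_prime hz hz1]
      exact orderOf_dvd_natCard z
    exact hq.out.ne_one (Nat.eq_one_of_dvd_coprimes hco (h1.trans h2) dvd_rfl)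
  have hce : Commute e z := hzc e heP
  have hzord : orderOf z = p := orderOf_eq_prime hz hz1
  have hmod : ∀ n : ℕ, z ^ n = z ^ ((n : ZMod p).val) := fun n => by
    rw [ZMod.val_natCast, ← pow_mod_orderOf z n, hzord]
  have hx1 : ∀ i : ℕ, e * z ^ i ≠ 1 := fun i h => hez (by
    rw [eq_inv_of_mul_eq_one_left h]
    exact inv_mem (Subgroup.npow_mem_zpowers z i))
  have hxp : ∀ i : ℕ, (e * z ^ i) ^ p = 1 := fun i => by
    rw [(hce.pow_right i).mul_pow, he, ← pow_mul, mul_comm, pow_mul, hz, one_pow, one_mul]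
  -- the sum over the `p` projections
  have hsum : ∀ w : V, ∑ i ∈ Finset.range p, powSum ρ p (e * z ^ i) w = (p : ZMod q) • w := by
    intro w
    simp only [powSum_apply]
    rw [Finset.sum_comm, Finset.sum_eq_single_of_mem 0 (Finset.mem_range.2 hpr.pos)]
    · simp [← Nat.cast_smul_eq_nsmul (ZMod q)]
    · intro j hj hj0
      have hzj : z ^ j ≠ 1 := fun h => hj0 (Nat.eq_zero_of_dvd_of_lt
        (hzord ▸ orderOf_dvd_of_pow_eq_one h) (Finset.mem_range.1 hj))
      have h0 : powSum ρ p (z ^ j) w = 0 :=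
        hirr.fixed_eq_zero hinj hzj (fun h hh => ((show Commute h z from hzc h hh).pow_right j).eq)
          (powSum_fixed (by rw [← pow_mul, mul_comm, pow_mul, hz, one_pow]) w)
      have : ∀ i ∈ Finset.range p, ρ ((e * z ^ i) ^ j) w = ρ (e ^ j) (ρ ((z ^ j) ^ i) w) := by
        intro i _
        rw [(hce.pow_right i).mul_pow, ← pow_mul, mul_comm, pow_mul, map_mul, Module.End.mul_apply]
      rw [Finset.sum_congr rfl this, ← map_sum, ← powSum_apply, h0, map_zero]
  -- `e` is not central
  obtain ⟨h₀, hh₀, c₀, hc₀, hc₀'⟩ : ∃ h ∈ (P : Subgroup A), ∃ c : ℕ,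
      h * e * h⁻¹ = e * z ^ c ∧ (c : ZMod p) ≠ 0 := by
    by_contra hcon
    push Not at hcon
    have hec : ∀ h ∈ (P : Subgroup A), h * e = e * h := fun h hh => by
      obtain ⟨c, hc⟩ := hmove h hh
      have hc0 := hcon h hh c hc
      rw [hmod c, hc0, ZMod.val_zero, pow_zero, mul_one] at hc
      exact mul_inv_eq_iff_eq_mul.1 hc
    obtain ⟨w, hw⟩ := exists_ne (0 : V)
    refine hw ?_
    have h := hsum w
    rw [Finset.sum_eq_zero (fun i _ => hirr.fixed_eq_zero hinj (hx1 i) (fun h hh =>
      ((show Commute h e from hec h hh).mul_right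
        ((show Commute h z from hzc h hh).pow_right i)).eq) (powSum_fixed (hxp i) w))] at h
    exact (smul_eq_zero.1 h.symm).resolve_left hqp
  -- the blocks
  let U : ZMod p → Submodule (ZMod q) V :=
    fun i => LinearMap.eqLocus (ρ (e * z ^ i.val)) LinearMap.id
  have hmem : ∀ i w, w ∈ U i ↔ ρ (e * z ^ i.val) w = w := fun i w => by simp [U]
  have hmap : ∀ h ∈ (P : Subgroup A), ∀ c : ℕ, h * e * h⁻¹ = e * z ^ c →
      ∀ i, ∀ w ∈ U i, ρ h w ∈ U (i + c) := by
    intro h hh c hc i w hw
    rw [hmem] at hw ⊢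
    have h1 : e * z ^ ((i + (c : ZMod p)).val) = h * (e * z ^ i.val) * h⁻¹ := by
      have h2 : ((i.val + c : ℕ) : ZMod p) = i + c := by rw [Nat.cast_add, ZMod.natCast_zmod_val]
      rw [← h2, ← hmod, add_comm, pow_add, ← mul_assoc, ← hc]
      have h3 : Commute (h⁻¹) (z ^ i.val) :=
        ((show Commute h z from hzc h hh).inv_left).pow_right _
      rw [mul_assoc (h * e) h⁻¹, h3.eq]
      group
    rw [h1, ← Module.End.mul_apply, ← map_mul, inv_mul_cancel_right, map_mul,
      Module.End.mul_apply, hw]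
  have hker : ∀ i l : ZMod p, i ≠ l → ∀ w ∈ U i, powSum ρ p (e * z ^ l.val) w = 0 := by
    intro i l hil w hw
    rw [hmem] at hw
    set y := z ^ l.val * (z ^ i.val)⁻¹ with hy
    have hy1 : y ≠ 1 := fun h => by
      have h1 := mul_inv_eq_one.1 h
      have := (ZMod.natCast_eq_natCast_iff' l.val i.val p).2
        (by simpa [hzord, Nat.ModEq] using (pow_eq_pow_iff_modEq.1 h1))
      simp only [ZMod.natCast_zmod_val] at this
      exact hil this.symm
    have hcx : Commute (e * z ^ l.val) y :=
      ((hce.pow_right _).mul_right (hce.pow_right _).inv_right).mul_left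
        ((((Commute.refl z).pow_pow _ _).mul_right ((Commute.refl z).pow_pow _ _).inv_right))
    have hxy : ρ (e * z ^ l.val) w = ρ y w := by
      rw [show e * z ^ l.val = y * (e * z ^ i.val) by
        rw [hy]
        have h1 : Commute (z ^ l.val * (z ^ i.val)⁻¹) e :=
          ((hce.pow_right _).mul_right (hce.pow_right _).inv_right).symm
        rw [← mul_assoc, h1.eq]
        group, map_mul, Module.End.mul_apply, hw]
    have hpw : ∀ j : ℕ, ρ ((e * z ^ l.val) ^ j) w = ρ (y ^ j) w := by
      intro j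
      induction j with
      | zero => simp
      | succ j ih =>
        rw [pow_succ, map_mul, Module.End.mul_apply, hxy, ← Module.End.mul_apply, ← map_mul,
          (hcx.pow_left j).eq, map_mul, Module.End.mul_apply, ih, ← Module.End.mul_apply,
          ← map_mul, ← pow_succ']
    rw [powSum_apply, Finset.sum_congr rfl (fun j _ => hpw j), ← powSum_apply]
    refine hirr.fixed_eq_zero hinj hy1 (fun h hh => ?_) (powSum_fixed ?_ w)
    · exact ((show Commute h z from hzc h hh).pow_right _).mul_right
        ((show Commute h z from hzc h hh).pow_right _).inv_right |>.eq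
    · rw [hy, ((Commute.refl z).pow_pow _ _).inv_right.mul_pow, inv_pow, ← pow_mul, ← pow_mul,
        mul_comm, mul_comm i.val, pow_mul, pow_mul, hz]
      simp
  have hind : iSupIndep U := by
    intro l
    rw [disjoint_iff_inf_le]
    rintro w ⟨hw, hw'⟩
    have h1 : powSum ρ p (e * z ^ l.val) w = 0 := by
      have : (⨆ (i) (_ : i ≠ l), U i) ≤ LinearMap.ker (powSum ρ p (e * z ^ l.val)) :=
        iSup₂_le fun i hi u hu => LinearMap.mem_ker.2 (hker i l hi u hu)
      exact LinearMap.mem_ker.1 (this hw')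
    have hw0 : ρ (e * z ^ l.val) w = w := (hmem l w).1 hw
    have h2 : ∀ j : ℕ, ρ ((e * z ^ l.val) ^ j) w = w := by
      intro j
      induction j with
      | zero => simp
      | succ j ih => rw [pow_succ, map_mul, Module.End.mul_apply, hw0, ih]
    rw [powSum_apply, Finset.sum_congr rfl (fun j _ => h2 j), Finset.sum_const, Finset.card_range,
      ← Nat.cast_smul_eq_nsmul (ZMod q)] at h1
    exact (Submodule.mem_bot _).2 ((smul_eq_zero.1 h1).resolve_left hqp)
  have htop : ⨆ i, U i = ⊤ := by
    rw [eq_top_iff]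
    intro w _
    rw [show w = (p : ZMod q)⁻¹ • ∑ i ∈ Finset.range p, powSum ρ p (e * z ^ i) w by
      rw [hsum, smul_smul, inv_mul_cancel₀ hqp, one_smul]]
    refine Submodule.smul_mem _ _ (sum_mem fun i _ => Submodule.mem_iSup_of_mem (i : ZMod p) ?_)
    rw [hmem, ← hmod, powSum_fixed (hxp i)]
  refine isSolvable_of_blocks IH hinj hco hρ P U (fun i hi => ?_) hind htop (fun h hh => ?_)
  · have hall : ∀ n : ℕ, U (i - (n : ZMod p) * c₀) = ⊥ := by
      intro n
      induction n with
      | zero => simpa using hi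
      | succ n ih =>
        rw [eq_bot_iff]
        intro w hw
        have h1 := hmap h₀ hh₀ c₀ hc₀ _ w hw
        rw [show i - ((n + 1 : ℕ) : ZMod p) * c₀ + c₀ = i - (n : ZMod p) * c₀ by push_cast; ring,
          ih, Submodule.mem_bot] at h1
        exact (Submodule.mem_bot _).2 ((ρ.apply_bijective h₀).1 (h1.trans (map_zero _).symm))
    have hU : ⨆ j, U j ≤ ⊥ := iSup_le fun j => by
      obtain ⟨n, hn⟩ := ZMod.natCast_zmod_surjective ((i - j) / (c₀ : ZMod p))
      have := hall n
      rw [hn, div_mul_cancel₀ _ hc₀', sub_sub_cancel] at this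
      exact this.le
    obtain ⟨w, hw⟩ := exists_ne (0 : V)
    exact hw ((Submodule.mem_bot _).1 (hU (htop ▸ Submodule.mem_top)))
  · obtain ⟨c, hc⟩ := hmove h hh
    exact ⟨c, hmap h hh c hc⟩

end Cfsg.Agent.BaerGroup
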